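import Mathlib
import Cfsg.Agent.Helper24.Class2
import Cfsg.Prelude.Def_Transfer

set_option autoImplicit false

namespace Cfsg.Agent.Helper24

open scoped commutatorElement

/-- For an odd prime `p`, `r ^ p ≡ 1 (mod p ^ m)` forces `r ≡ 1 (mod p ^ (m - 1))`. -/
theorem modEq_one_of_pow_prime_modEq_one {p : ℕ} (hp : p.Prime) (hodd : p ≠ 2) {r m : ℕ}
    (hm : 1 ≤ m) (h : r ^ p ≡ 1 [MOD p ^ m]) : r ≡ 1 [MOD p ^ (m - 1)] ∧ r ≡ 1 [MOD p] := by
  haveI : Fact p.Prime := ⟨hp⟩
  have hoddp : Odd p := hp.odd_of_ne_two hodd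
  have h' : ((p : ℤ)) ^ m ∣ (r : ℤ) ^ p - 1 := by
    have h0 := (Nat.modEq_iff_dvd.mp h.symm)
    push_cast at h0
    exact h0
  have h1 : (p : ℤ) ∣ (r : ℤ) ^ p - 1 :=
    (dvd_pow_self (p : ℤ) (by omega : m ≠ 0)).trans h'
  have h3 : (p : ℤ) ∣ (r : ℤ) - 1 := by
    rw [← ZMod.intCast_zmod_eq_zero_iff_dvd] at h1 ⊢
    push_cast at h1 ⊢
    rw [ZMod.pow_card] at h1
    exact h1
  have h4 : ¬ (p : ℤ) ∣ (r : ℤ) := by
    intro hd
    have h5 := dvd_sub hd h3
    rw [sub_sub_cancel] at h5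
    have h6 : (p : ℤ) = 1 ∨ (p : ℤ) = -1 := Int.isUnit_iff.mp (isUnit_of_dvd_one h5)
    have hp2 := hp.two_le
    omega
  have hlte := Int.emultiplicity_pow_sub_pow hp hoddp (x := (r : ℤ)) (y := 1) h3 h4 p
  rw [one_pow, hp.emultiplicity_self] at hlte
  have h5 : (m : ℕ∞) ≤ emultiplicity (p : ℤ) ((r : ℤ) ^ p - 1) :=
    pow_dvd_iff_le_emultiplicity.mp h'
  rw [hlte] at h5
  have h6 : ((m - 1 : ℕ) : ℕ∞) ≤ emultiplicity (p : ℤ) ((r : ℤ) - 1) := by
    generalize emultiplicity (p : ℤ) ((r : ℤ) - 1) = e at h5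
    induction e using ENat.recTopCoe with
    | top => exact le_top
    | coe k =>
      have : (m : ℕ∞) ≤ ((k + 1 : ℕ) : ℕ∞) := by simpa using h5
      have hk : m ≤ k + 1 := by exact_mod_cast this
      exact_mod_cast (by omega : m - 1 ≤ k)
  have h7 : (p : ℤ) ^ (m - 1) ∣ (r : ℤ) - 1 := pow_dvd_iff_le_emultiplicity.mpr h6
  constructor
  · apply Nat.ModEq.symm
    rw [Nat.modEq_iff_dvd]
    push_cast
    exact h7
  · apply Nat.ModEq.symm
    rw [Nat.modEq_iff_dvd]
    push_cast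
    exact h3

/-- If `x c x⁻¹ = c ^ r` then `x ^ k c x ^ (-k) = c ^ (r ^ k)`. -/
theorem conj_pow_eq_pow_pow {G : Type*} [Group G] {x c : G} {r : ℕ} (h : x * c * x⁻¹ = c ^ r)
    (k : ℕ) : x ^ k * c * (x ^ k)⁻¹ = c ^ (r ^ k) := by
  induction k with
  | zero => simp
  | succ k ih =>
    have h1 : x ^ (k + 1) * c * (x ^ (k + 1))⁻¹ = x * (x ^ k * c * (x ^ k)⁻¹) * x⁻¹ := by
      rw [pow_succ']; group
    rw [h1, ih, ← conj_pow, h, ← pow_mul, pow_succ, mul_comm]

/-- For odd `p`, in a non-cyclic finite `p`-group with a cyclic subgroup of index `p`, the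
`p`-th power map is a homomorphism and its kernel has order `p ^ 2`. -/
theorem omega_of_cyclic_index_p {R : Type*} [Group R] [Finite R] {p : ℕ} [Fact p.Prime]
    (hp : p ≠ 2) (hR : IsPGroup p R) (hnc : ¬ IsCyclic R) (C : Subgroup R) (hC : IsCyclic C)
    (hCi : C.index = p) :
    ∃ K : Subgroup R, (∀ x : R, x ∈ K ↔ x ^ p = 1) ∧ Nat.card K = p ^ 2 := by
  have hpp : p.Prime := Fact.out
  obtain ⟨m, hCcard⟩ := IsPGroup.iff_card.mp (hR.to_subgroup C)
  have hRcard : Nat.card R = p ^ (m + 1) := by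
    rw [← Subgroup.card_mul_index C, hCcard, hCi, pow_succ]
  have hCn : C.Normal := by
    apply Subgroup.normal_of_index_eq_minFac_card
    rw [hCi, hRcard, hpp.pow_minFac (by omega)]
  have hpowC : ∀ y : R, y ^ p ∈ C := fun y => hCi ▸ C.pow_index_mem y
  obtain ⟨g, hg⟩ := hC.exists_generator
  obtain ⟨c, hc⟩ : ∃ c : R, c = (g : R) := ⟨_, rfl⟩
  have hcC : c ∈ C := hc ▸ g.2
  have hCz : ∀ y ∈ C, y ∈ Subgroup.zpowers c := by
    intro y hy
    obtain ⟨k, hk⟩ := Subgroup.mem_zpowers_iff.mp (hg ⟨y, hy⟩)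
    refine Subgroup.mem_zpowers_iff.mpr ⟨k, ?_⟩
    have := congrArg Subtype.val hk
    rw [hc]
    simpa using this
  have hCeq : C = Subgroup.zpowers c :=
    le_antisymm hCz (by rw [Subgroup.zpowers_le]; exact hcC)
  have hordc : orderOf c = p ^ m := by rw [← Nat.card_zpowers, ← hCeq, hCcard]
  have hm : 1 ≤ m := by
    by_contra h0
    have hm0 : m = 0 := by omega
    rw [hm0, zero_add, pow_one] at hRcard
    apply hnc
    haveI : Fact (Nat.card R).Prime := ⟨by rw [hRcard]; exact hpp⟩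
    exact isCyclic_of_prime_card rfl
  -- `c ^ p` is central
  have hkey : ∀ x : R, x * c ^ p * x⁻¹ = c ^ p := by
    intro x
    have h1 : x * c * x⁻¹ ∈ Subgroup.zpowers c := hCz _ (hCn.conj_mem c hcC x)
    rw [← mem_powers_iff_mem_zpowers] at h1
    obtain ⟨r, hr⟩ := (Submonoid.mem_powers_iff _ _).mp h1
    have hxp : x ^ p ∈ Subgroup.zpowers c := hCz _ (hpowC x)
    obtain ⟨j, hj⟩ := Subgroup.mem_zpowers_iff.mp hxp
    have h2 : x ^ p * c * (x ^ p)⁻¹ = c := by
      rw [← hj]; group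
    have h3 := conj_pow_eq_pow_pow hr.symm p
    rw [h2] at h3
    have h4 : r ^ p ≡ 1 [MOD p ^ m] := by
      rw [← hordc]
      apply pow_eq_pow_iff_modEq.mp
      rw [pow_one]; exact h3.symm
    obtain ⟨h5, -⟩ := modEq_one_of_pow_prime_modEq_one hpp hp hm h4
    have h7 : c ^ (r * p) = c ^ p := by
      apply pow_eq_pow_iff_modEq.mpr
      rw [hordc]
      have h8 := Nat.ModEq.mul_right' p h5
      rw [one_mul, ← pow_succ, Nat.sub_add_cancel hm] at h8
      exact h8
    rw [← conj_pow, ← hr, ← pow_mul, h7]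
  have hcp_center : c ^ p ∈ Subgroup.center R := by
    rw [Subgroup.mem_center_iff]
    intro x
    calc x * c ^ p = (x * c ^ p * x⁻¹) * x := by group
      _ = c ^ p * x := by rw [hkey x]
  obtain ⟨D, hD⟩ : ∃ D : Subgroup R, D = Subgroup.zpowers (c ^ p) := ⟨_, rfl⟩
  have hDcen : D ≤ Subgroup.center R := by rw [hD, Subgroup.zpowers_le]; exact hcp_center
  haveI hDn : D.Normal := ⟨fun d hd g => by
    have := Subgroup.mem_center_iff.mp (hDcen hd) g
    rw [this, mul_inv_cancel_right]; exact hd⟩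
  have hDcard : Nat.card D = p ^ (m - 1) := by
    rw [hD, Nat.card_zpowers, orderOf_pow' c hpp.ne_zero, hordc]
    have h1 : (p ^ m).gcd p = p := Nat.gcd_eq_right (dvd_pow_self p (by omega))
    rw [h1]
    have h2 := Nat.pow_div hm hpp.pos
    rwa [pow_one] at h2
  -- `R ⧸ D` has order `p ^ 2`, hence is abelian
  have hcommD : ∀ x y : R, ⁅x, y⁆ ∈ D := by
    have hq : Nat.card (R ⧸ D) = p ^ 2 := by
      have h1 := Subgroup.card_eq_card_quotient_mul_card_subgroup D
      rw [hRcard, hDcard] at h1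
      have h2 : p ^ (m + 1) = p ^ 2 * p ^ (m - 1) := by rw [← pow_add]; congr 1; omega
      rw [h2] at h1
      exact (Nat.eq_of_mul_eq_mul_right (pow_pos hpp.pos _) h1).symm
    have hc' : IsMulCommutative (R ⧸ D) := IsPGroup.isMulCommutative_of_card_eq_prime_sq hq
    intro x y
    rw [← QuotientGroup.eq_one_iff]
    have h3 : ((⁅x, y⁆ : R) : R ⧸ D) = ⁅(x : R ⧸ D), (y : R ⧸ D)⁆ := rfl
    rw [h3, commutatorElement_eq_one_iff_commute]
    exact hc'.is_comm.comm _ _
  have hcc : ∀ x y g : R, Commute ⁅x, y⁆ g := fun x y g =>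
    (Subgroup.mem_center_iff.mp (hDcen (hcommD x y)) g).symm
  -- all `p`-th powers lie in `D`
  have hpowD : ∀ y : R, y ^ p ∈ D := by
    intro y
    have h1 : y ^ p ∈ Submonoid.powers c := by
      rw [mem_powers_iff_mem_zpowers]; exact hCz _ (hpowC y)
    obtain ⟨j, hj⟩ := (Submonoid.mem_powers_iff _ _).mp h1
    by_cases hpj : p ∣ j
    · obtain ⟨k, rfl⟩ := hpj
      rw [← hj, pow_mul, hD]
      exact Subgroup.pow_mem _ (Subgroup.mem_zpowers _) k
    · exfalso
      have hcop : j.Coprime (orderOf c) := by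
        rw [hordc]
        exact Nat.Coprime.pow_right m ((Nat.Prime.coprime_iff_not_dvd hpp).mpr hpj).symm
      obtain ⟨k, hk⟩ := exists_pow_eq_self_of_coprime hcop
      rw [hj] at hk
      -- `y ^ (p * k) = c`
      obtain ⟨t, ht⟩ := (Nat.dvd_prime_pow hpp).mp (hRcard ▸ orderOf_dvd_natCard y)
      have ht' : t = m + 1 := by
        by_contra hne
        have htm : t ≤ m := by omega
        have h2 : y ^ p ^ m = 1 := by
          have : orderOf y ∣ p ^ m := by rw [ht.2]; exact pow_dvd_pow p htm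
          exact orderOf_dvd_iff_pow_eq_one.mp this
        have h3 : c ^ p ^ (m - 1) = 1 := by
          rw [← hk, ← pow_mul, ← pow_mul]
          have h4 : p * (k * p ^ (m - 1)) = p ^ m * k := by
            have : p ^ m = p ^ (m - 1) * p := by rw [← pow_succ, Nat.sub_add_cancel hm]
            rw [this]; ring
          rw [h4, pow_mul, h2, one_pow]
        have h5 := orderOf_dvd_of_pow_eq_one h3
        rw [hordc] at h5
        have h6 := (Nat.pow_dvd_pow_iff_le_right hpp.one_lt).mp h5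
        omega
      apply hnc
      apply isCyclic_of_orderOf_eq_card y
      rw [ht.2, ht', hRcard]
  have hcomm_p : ∀ y x : R, ⁅y, x⁆ ^ p = 1 := by
    intro y x
    rw [← commutator_pow_left y x (hcc y x y) p, commutatorElement_eq_one_iff_commute]
    exact (Subgroup.mem_center_iff.mp (hDcen (hpowD y)) x).symm
  have hdvd : p ∣ p.choose 2 := by
    apply hpp.dvd_choose_self (by norm_num)
    have := hpp.two_le
    omega
  have hmul : ∀ x y : R, (x * y) ^ p = x ^ p * y ^ p := by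
    intro x y
    rw [mul_pow_of_commutator_central x y (hcc y x x) (hcc y x y) p]
    obtain ⟨k, hk⟩ := hdvd
    rw [hk, pow_mul, hcomm_p y x, one_pow, mul_one]
  let π : R →* R := MonoidHom.mk' (fun y => y ^ p) hmul
  have hπ : ∀ y, π y = y ^ p := fun y => rfl
  have hrange : π.range = D := by
    apply le_antisymm
    · rintro _ ⟨y, rfl⟩
      rw [hπ]; exact hpowD y
    · rw [hD, Subgroup.zpowers_le]
      exact ⟨c, rfl⟩
  refine ⟨π.ker, fun x => by rw [MonoidHom.mem_ker, hπ], ?_⟩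
  have h1 := Subgroup.card_mul_index π.ker
  rw [Subgroup.index_ker, hrange, hDcard, hRcard] at h1
  have h2 : p ^ (m + 1) = p ^ 2 * p ^ (m - 1) := by rw [← pow_add]; congr 1; omega
  rw [h2] at h1
  exact Nat.eq_of_mul_eq_mul_right (pow_pos hpp.pos _) h1

/-- The statement in terms of the subgroup generated by the elements of order dividing `p`. -/
theorem omega_elementary_of_cyclic_index_p {R : Type*} [Group R] [Finite R] {p : ℕ}
    [Fact p.Prime] (hp : p ≠ 2) (hR : IsPGroup p R) (hnc : ¬ IsCyclic R) (C : Subgroup R)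
    (hC : IsCyclic C) (hCi : C.index = p) :
    Cfsg.IsElementaryAbelian p (Subgroup.closure {x : R | x ^ p = 1}) ∧
      Nat.card (Subgroup.closure {x : R | x ^ p = 1}) = p ^ 2 := by
  obtain ⟨K, hK, hKcard⟩ := omega_of_cyclic_index_p hp hR hnc C hC hCi
  have hcl : Subgroup.closure {x : R | x ^ p = 1} = K := by
    have : {x : R | x ^ p = 1} = (K : Set R) := by
      ext x
      exact (hK x).symm
    rw [this, Subgroup.closure_eq]
  rw [hcl]
  exact ⟨⟨IsPGroup.isMulCommutative_of_card_eq_prime_sq hKcard, fun a ha => (hK a).mp ha⟩, hKcard⟩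

end Cfsg.Agent.Helper24
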