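import Mathlib
import Cfsg.Agent.Lead.PGroup
import Cfsg.Agent.Helper24.IndexP
import Cfsg.Agent.Helper24.PChain
import Cfsg.Agent.Helper24.Critical
import Cfsg.Agent.Helper24.CyclicMax

set_option autoImplicit false

namespace Cfsg.Agent.Helper24

open scoped commutatorElement

/-- Adjoining an element `x ∉ M` with `x ^ p ∈ M` to the normal subgroup `M` multiplies the
order by `p`. -/
theorem card_sup_zpowers_of_pow_mem {G : Type*} [Group G] [Finite G] {p : ℕ} (hp : p.Prime)
    (M : Subgroup G) [M.Normal] (x : G) (hxM : x ∉ M) (hxp : x ^ p ∈ M) :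
    Nat.card (M ⊔ Subgroup.zpowers x : Subgroup G) = Nat.card M * p := by
  have h1 := Subgroup.relIndex_mul_relIndex ⊥ M (M ⊔ Subgroup.zpowers x) bot_le le_sup_left
  rw [Subgroup.relIndex_bot_left, Subgroup.relIndex_bot_left, Subgroup.relIndex_sup_left] at h1
  rw [← h1]
  congr 1
  have h2 := Subgroup.relIndex_ker (Subgroup.zpowers x) (QuotientGroup.mk' M)
  rw [QuotientGroup.ker_mk'] at h2
  rw [h2, MonoidHom.map_zpowers, Nat.card_zpowers]
  haveI : Fact p.Prime := ⟨hp⟩
  apply orderOf_eq_prime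
  · rw [← map_pow]
    exact (QuotientGroup.eq_one_iff _).mpr hxp
  · intro h
    exact hxM ((QuotientGroup.eq_one_iff _).mp h)

/-- A finite abelian `p`-group with at most `p` elements of order dividing `p` is cyclic. -/
theorem isCyclic_of_card_omega_le {A : Type*} [Group A] [Finite A] {p : ℕ} [Fact p.Prime]
    (hA : IsPGroup p A) (hcomm : ∀ a b : A, a * b = b * a) (K : Subgroup A)
    (hK : ∀ x, x ∈ K ↔ x ^ p = 1) (hKcard : Nat.card K ≤ p) : IsCyclic A := by
  have hpp : p.Prime := Fact.out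
  let φ : A →* A := MonoidHom.mk' (fun a => a ^ p) (fun a b => Commute.mul_pow (hcomm a b) p)
  have hφ : ∀ a, φ a = a ^ p := fun a => rfl
  have hker : φ.ker = K := by
    ext x
    rw [MonoidHom.mem_ker, hK, hφ]
  have hrange_le : φ.range ≤ frattini A := by
    rintro _ ⟨a, rfl⟩
    rw [hφ]
    exact Cfsg.Agent.Lead.pow_mem_frattini hA a
  have hidx : φ.range.index = Nat.card K := by
    have h1 := Subgroup.card_mul_index φ.ker
    rw [Subgroup.index_ker] at h1
    have h2 := Subgroup.card_mul_index φ.range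
    have hpos : 0 < Nat.card φ.range := Nat.card_pos
    rw [← hker]
    apply Nat.eq_of_mul_eq_mul_left hpos
    rw [h2, mul_comm, h1]
  by_cases htop : φ.range = ⊤
  · have hfr : frattini A = ⊤ := top_le_iff.mp (htop ▸ hrange_le)
    have hbt : (⊥ : Subgroup A) = ⊤ := frattini_nongenerating (by rw [hfr, bot_sup_eq])
    haveI : Subsingleton A := by
      refine ⟨fun a b => ?_⟩
      have ha : a ∈ (⊥ : Subgroup A) := hbt ▸ Subgroup.mem_top a
      have hb : b ∈ (⊥ : Subgroup A) := hbt ▸ Subgroup.mem_top b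
      rw [Subgroup.mem_bot] at ha hb
      rw [ha, hb]
    infer_instance
  · obtain ⟨a, -, ha⟩ := SetLike.exists_of_lt (lt_top_iff_ne_top.mpr htop)
    have hidxp : φ.range.index = p := by
      obtain ⟨n, hn⟩ := IsPGroup.iff_card.mp hA
      have h1 : φ.range.index ∣ p ^ n := hn ▸ Subgroup.index_dvd_card φ.range
      obtain ⟨j, hj, hjc⟩ := (Nat.dvd_prime_pow hpp).mp h1
      have hj0 : j ≠ 0 := by
        rintro rfl
        rw [pow_zero] at hjc
        exact htop (Subgroup.index_eq_one.mp hjc)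
      have hj1 : j ≤ 1 := by
        have h2 : p ^ j ≤ p ^ 1 := by rw [← hjc, hidx, pow_one]; exact hKcard
        exact (Nat.pow_le_pow_iff_right hpp.one_lt).mp h2
      have : j = 1 := by omega
      rw [hjc, this, pow_one]
    have hcl := closure_insert_eq_top φ.range hpp hidxp ha
    have hsup : Subgroup.zpowers a ⊔ φ.range = ⊤ := by
      rw [eq_top_iff, ← hcl, Subgroup.closure_le]
      intro y hy
      rcases Set.mem_insert_iff.mp hy with rfl | hy
      · exact (le_sup_left : Subgroup.zpowers y ≤ _) (Subgroup.mem_zpowers y)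
      · exact (le_sup_right : φ.range ≤ _) hy
    have hz : Subgroup.zpowers a = ⊤ :=
      frattini_nongenerating (top_le_iff.mp (hsup ▸ sup_le_sup_left hrange_le _))
    exact isCyclic_iff_exists_zpowers_eq_top.mpr ⟨a, hz⟩

/-- For odd `p`, a non-cyclic finite `p`-group has a normal elementary abelian subgroup of order
`p ^ 2`. -/
theorem exists_normal_elementary_sq {R : Type*} [Group R] [Finite R] {p : ℕ} [Fact p.Prime]
    (hp : p ≠ 2) (hR : IsPGroup p R) (hnc : ¬ IsCyclic R) :
    ∃ A : Subgroup R, A.Normal ∧ Cfsg.IsElementaryAbelian p A ∧ Nat.card A = p ^ 2 := by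
  have hpp : p.Prime := Fact.out
  haveI : Group.IsNilpotent R := hR.isNilpotent
  obtain ⟨A₀, -, hA₀n, hA₀c, -, hmax'⟩ := exists_maximal_normal_abelian_exponent 0
    (⊥ : Subgroup R) Subgroup.normal_bot ⟨⟨fun a b => Subsingleton.elim _ _⟩⟩
    (fun a _ => pow_zero a)
  have hmax : ∀ B : Subgroup R, B.Normal → IsMulCommutative B → A₀ ≤ B → B = A₀ :=
    fun B hBn hBc hAB => hmax' B hBn hBc (fun b _ => pow_zero b) hAB
  haveI := hA₀n
  have hA₀comm : ∀ a ∈ A₀, ∀ b ∈ A₀, a * b = b * a := by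
    intro a ha b hb
    have := hA₀c.is_comm.comm ⟨a, ha⟩ ⟨b, hb⟩
    exact congrArg Subtype.val this
  by_cases hcyc : IsCyclic A₀
  · -- cyclic case
    have hne : ¬ (⊤ : Subgroup R) ≤ A₀ := by
      intro h
      apply hnc
      have htop : A₀ = ⊤ := top_le_iff.mp h
      have e : A₀ ≃* R := (MulEquiv.subgroupCongr htop).trans Subgroup.topEquiv
      exact e.isCyclic.mp hcyc
    obtain ⟨x, -, hxA, hxc, hxp⟩ := exists_mem_not_mem_central_pow_mem hR ⊤ A₀ hne
    obtain ⟨B, hB⟩ : ∃ B : Subgroup R, B = A₀ ⊔ Subgroup.zpowers x := ⟨_, rfl⟩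
    have hBn : B.Normal := hB ▸ sup_zpowers_normal A₀ x hxc
    have hAB : A₀ ≤ B := hB ▸ le_sup_left
    have hxB : x ∈ B := hB ▸ (le_sup_right : Subgroup.zpowers x ≤ _) (Subgroup.mem_zpowers x)
    have hBcard : Nat.card B = Nat.card A₀ * p := by
      rw [hB]; exact card_sup_zpowers_of_pow_mem hpp A₀ x hxA hxp
    have hrel : (A₀.subgroupOf B).index = p := by
      have h1 := Subgroup.relIndex_mul_relIndex ⊥ A₀ B bot_le hAB
      rw [Subgroup.relIndex_bot_left, Subgroup.relIndex_bot_left, hBcard] at h1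
      exact Nat.eq_of_mul_eq_mul_left Nat.card_pos h1
    have hBnc : ¬ IsCyclic B := by
      intro hBc
      have hBcomm : IsMulCommutative B := ⟨⟨fun a b => by
        haveI := hBc
        exact (IsCyclic.commGroup).mul_comm a b⟩⟩
      have := hmax B hBn hBcomm hAB
      exact hxA (this ▸ hxB)
    have hcycS : IsCyclic (A₀.subgroupOf B) :=
      (Subgroup.subgroupOfEquivOfLe hAB).isCyclic.mpr hcyc
    obtain ⟨K, hK, hKcard⟩ := omega_of_cyclic_index_p hp (hR.to_subgroup B) hBnc
      (A₀.subgroupOf B) hcycS hrel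
    refine ⟨K.map B.subtype, ⟨fun a ha g => ?_⟩, ?_, ?_⟩
    · rw [Subgroup.mem_map] at ha ⊢
      obtain ⟨k, hk, rfl⟩ := ha
      have hkp : k ^ p = 1 := (hK k).mp hk
      refine ⟨⟨g * (k : R) * g⁻¹, hBn.conj_mem _ k.2 g⟩, ?_, rfl⟩
      rw [hK]
      apply Subtype.ext
      show (g * (k : R) * g⁻¹) ^ p = 1
      have hkp' : (k : R) ^ p = 1 := by
        have := congrArg Subtype.val hkp
        simpa using this
      rw [conj_pow, hkp', mul_one, mul_inv_cancel]
    · have hcard : Nat.card (K.map B.subtype) = p ^ 2 := by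
        rw [Subgroup.card_map_of_injective B.subtype_injective, hKcard]
      refine ⟨IsPGroup.isMulCommutative_of_card_eq_prime_sq hcard, fun a ha => ?_⟩
      rw [Subgroup.mem_map] at ha
      obtain ⟨k, hk, rfl⟩ := ha
      have hkp : k ^ p = 1 := (hK k).mp hk
      have := congrArg Subtype.val hkp
      simpa using this
    · rw [Subgroup.card_map_of_injective B.subtype_injective, hKcard]
  · -- non-cyclic case: `Ω₁(A₀)`
    let Ω : Subgroup R :=
      { carrier := {a | a ∈ A₀ ∧ a ^ p = 1}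
        one_mem' := ⟨A₀.one_mem, one_pow p⟩
        mul_mem' := by
          rintro a b ⟨ha, hap⟩ ⟨hb, hbp⟩
          refine ⟨A₀.mul_mem ha hb, ?_⟩
          rw [Commute.mul_pow (hA₀comm a ha b hb), hap, hbp, one_mul]
        inv_mem' := by
          rintro a ⟨ha, hap⟩
          exact ⟨A₀.inv_mem ha, by rw [inv_pow, hap, inv_one]⟩ }
    have hΩmem : ∀ a, a ∈ Ω ↔ a ∈ A₀ ∧ a ^ p = 1 := fun a => Iff.rfl
    have hΩn : Ω.Normal := by
      refine ⟨fun a ha g => ?_⟩
      rw [hΩmem] at ha ⊢
      exact ⟨hA₀n.conj_mem a ha.1 g, by rw [conj_pow, ha.2, mul_one, mul_inv_cancel]⟩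
    haveI := hΩn
    have hΩA : Ω ≤ A₀ := fun a ha => ((hΩmem a).mp ha).1
    have hΩe : ∀ a ∈ Ω, a ^ p = 1 := fun a ha => ((hΩmem a).mp ha).2
    obtain ⟨k, hΩcard⟩ := IsPGroup.iff_card.mp (hR.to_subgroup Ω)
    have hk2 : 2 ≤ k := by
      by_contra hk
      apply hcyc
      apply isCyclic_of_card_omega_le (hR.to_subgroup A₀)
        (fun a b => Subtype.ext (hA₀comm a a.2 b b.2)) (Ω.subgroupOf A₀)
      · intro x
        rw [Subgroup.mem_subgroupOf, hΩmem]
        constructor
        · intro h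
          apply Subtype.ext
          simpa using h.2
        · intro h
          refine ⟨x.2, ?_⟩
          have := congrArg Subtype.val h
          simpa using this
      · have h1 : Nat.card (Ω.subgroupOf A₀) = Nat.card Ω :=
          Nat.card_congr (Subgroup.subgroupOfEquivOfLe hΩA).toEquiv
        rw [h1, hΩcard]
        calc p ^ k ≤ p ^ 1 := Nat.pow_le_pow_right hpp.pos (by omega)
          _ = p := pow_one p
    obtain ⟨B, hBn, hBΩ, hBcard⟩ := exists_normal_le_card_pow hR Ω hΩe k hΩcard 2 hk2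
    refine ⟨B, hBn, ⟨IsPGroup.isMulCommutative_of_card_eq_prime_sq hBcard,
      fun a ha => hΩe a (hBΩ ha)⟩, hBcard⟩

end Cfsg.Agent.Helper24
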