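import Mathlib

set_option autoImplicit false

namespace Cfsg.Agent.Helper24

/-- A nontrivial normal subgroup of a finite `p`-group meets the centre nontrivially. -/
theorem pgroup_normal_inf_center {Q : Type*} [Group Q] [Finite Q] {p : ℕ} [Fact p.Prime]
    (hQ : IsPGroup p Q) (N : Subgroup Q) [N.Normal] (hN : N ≠ ⊥) :
    ∃ z ∈ N, z ∈ Subgroup.center Q ∧ z ≠ 1 := by
  classical
  letI act : MulAction Q ↥N := MulAction.compHom ↥N (MulAut.conjNormal : Q →* MulAut ↥N)
  have hsm : ∀ (g : Q) (n : ↥N), ((g • n : ↥N) : Q) = g * n * g⁻¹ :=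
    fun g n => MulAut.conjNormal_apply g n
  have hmod := hQ.card_modEq_card_fixedPoints ↥N
  have hp : p.Prime := Fact.out
  have hpN : p ∣ Nat.card N := by
    obtain ⟨k, hk⟩ := IsPGroup.iff_card.mp (hQ.to_subgroup N)
    rcases Nat.eq_zero_or_pos k with h0 | hpos
    · exfalso; apply hN; rw [h0, pow_zero] at hk; exact Subgroup.card_eq_one.mp hk
    · rw [hk]; exact dvd_pow_self p hpos.ne'
  have hpF : p ∣ Nat.card (MulAction.fixedPoints Q ↥N) :=
    Nat.modEq_zero_iff_dvd.mp ((hmod.symm).trans (Nat.modEq_zero_iff_dvd.mpr hpN))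
  have h1F : (1 : ↥N) ∈ MulAction.fixedPoints Q ↥N := by
    intro g; apply Subtype.ext; rw [hsm]; simp
  by_contra hcon
  push_neg at hcon
  have hall : ∀ x : MulAction.fixedPoints Q ↥N, x = ⟨1, h1F⟩ := by
    intro x
    apply Subtype.ext
    apply Subtype.ext
    show ((x : ↥N) : Q) = 1
    apply hcon _ (x : ↥N).2
    rw [Subgroup.mem_center_iff]
    intro g
    have h1 := hsm g (x : ↥N)
    rw [MulAction.mem_fixedPoints.mp x.2 g] at h1
    exact (eq_mul_inv_iff_mul_eq.mp h1).symm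
  have hcard : Nat.card (MulAction.fixedPoints Q ↥N) = 1 := by
    rw [Nat.card_eq_one_iff_unique]
    exact ⟨⟨fun a b => (hall a).trans (hall b).symm⟩, ⟨⟨1, h1F⟩⟩⟩
  rw [hcard] at hpF
  exact hp.one_lt.ne' (Nat.dvd_one.mp hpF)

end Cfsg.Agent.Helper24
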