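import Mathlib
import Cfsg.Agent.Helper24.NormalCenter

set_option autoImplicit false

namespace Cfsg.Agent.Helper24

open scoped commutatorElement

universe u

/-- A group of order `p ^ m` has nilpotency class at most `m`, and at most `m - 1` if `m ≥ 2`. -/
theorem nilpotencyClass_le_of_card {p : ℕ} [Fact p.Prime] (m : ℕ) :
    ∀ (G : Type u) [Group G] [Finite G], Nat.card G = p ^ m →
      Group.nilpotencyClass G ≤ m ∧ (2 ≤ m → Group.nilpotencyClass G ≤ m - 1) := by
  have hpp : p.Prime := Fact.out
  induction m using Nat.strong_induction_on with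
  | _ m ih =>
  intro G _ _ hG
  have hPG : IsPGroup p G := IsPGroup.of_card hG
  haveI : Group.IsNilpotent G := hPG.isNilpotent
  rcases Nat.eq_zero_or_pos m with rfl | hmpos
  · rw [pow_zero] at hG
    haveI : Subsingleton G := (Nat.card_eq_one_iff_unique.mp hG).1
    have h0 : Group.nilpotencyClass G = 0 := Group.nilpotencyClass_zero_iff_subsingleton.mpr ‹_›
    rw [h0]
    exact ⟨le_refl _, fun h => by omega⟩
  haveI : Nontrivial G := by
    apply Finite.one_lt_card_iff_nontrivial.mp
    rw [hG]
    exact Nat.one_lt_pow hmpos.ne' hpp.one_lt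
  rw [Group.nilpotencyClass_eq_quotient_center_plus_one]
  have hZnt : Nontrivial (Subgroup.center G) := hPG.center_nontrivial
  obtain ⟨z, hz⟩ := IsPGroup.iff_card.mp (hPG.to_subgroup (Subgroup.center G))
  have hz0 : z ≠ 0 := by
    rintro rfl
    rw [pow_zero] at hz
    have := Finite.one_lt_card_iff_nontrivial.mpr hZnt
    omega
  have hzm : z ≤ m := by
    have h1 := Subgroup.card_subgroup_dvd_card (Subgroup.center G)
    rw [hz, hG] at h1
    exact (Nat.pow_dvd_pow_iff_le_right hpp.one_lt).mp h1
  have hQ : Nat.card (G ⧸ Subgroup.center G) = p ^ (m - z) := by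
    have h1 := Subgroup.card_eq_card_quotient_mul_card_subgroup (Subgroup.center G)
    rw [hG, hz] at h1
    have h2 : p ^ m = p ^ (m - z) * p ^ z := by rw [← pow_add]; congr 1; omega
    rw [h2] at h1
    exact (Nat.eq_of_mul_eq_mul_right (pow_pos hpp.pos _) h1).symm
  obtain ⟨ih1, ih2⟩ := ih (m - z) (by omega) (G ⧸ Subgroup.center G) hQ
  -- the quotient cannot have order `p`
  have hne1 : m - z ≠ 1 := by
    intro h1
    rw [h1, pow_one] at hQ
    haveI : IsCyclic (G ⧸ Subgroup.center G) := isCyclic_of_prime_card hQ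
    have hcomm : IsMulCommutative G := isMulCommutative_of_isCyclic_quotient_center_self G
    have htop : Subgroup.center G = ⊤ := by
      rw [eq_top_iff]
      intro x _
      rw [Subgroup.mem_center_iff]
      intro g
      exact hcomm.is_comm.comm g x
    have h2 : Nat.card (G ⧸ Subgroup.center G) = 1 := by
      rw [← Subgroup.index_eq_card, htop, Subgroup.index_top]
    rw [hQ] at h2
    exact hpp.one_lt.ne' h2
  constructor
  · omega
  · intro hm2
    rcases Nat.lt_or_ge (m - z) 2 with h | h
    · have h0 : m - z = 0 := by omega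
      rw [h0] at ih1
      omega
    · have := ih2 h
      omega

/-- A group of order `p ^ n` (`n ≥ 3`) and class `n - 1` has centre of order `p`, and its
central quotient again has maximal class. -/
theorem card_center_of_maximal_class {p : ℕ} [Fact p.Prime] {X : Type u} [Group X] [Finite X]
    (n : ℕ) (hn : 3 ≤ n) (hX : Nat.card X = p ^ n) (hc : Group.nilpotencyClass X = n - 1) :
    Nat.card (Subgroup.center X) = p ∧ Nat.card (X ⧸ Subgroup.center X) = p ^ (n - 1) ∧
      Group.nilpotencyClass (X ⧸ Subgroup.center X) = n - 1 - 1 := by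
  have hpp : p.Prime := Fact.out
  have hPG : IsPGroup p X := IsPGroup.of_card hX
  haveI : Nontrivial X := by
    apply Finite.one_lt_card_iff_nontrivial.mp
    rw [hX]
    exact Nat.one_lt_pow (by omega) hpp.one_lt
  have hZnt : Nontrivial (Subgroup.center X) := hPG.center_nontrivial
  obtain ⟨z, hz⟩ := IsPGroup.iff_card.mp (hPG.to_subgroup (Subgroup.center X))
  have hz0 : z ≠ 0 := by
    rintro rfl
    rw [pow_zero] at hz
    have := Finite.one_lt_card_iff_nontrivial.mpr hZnt
    omega
  have hzm : z ≤ n := by
    have h1 := Subgroup.card_subgroup_dvd_card (Subgroup.center X)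
    rw [hz, hX] at h1
    exact (Nat.pow_dvd_pow_iff_le_right hpp.one_lt).mp h1
  have hQ : Nat.card (X ⧸ Subgroup.center X) = p ^ (n - z) := by
    have h1 := Subgroup.card_eq_card_quotient_mul_card_subgroup (Subgroup.center X)
    rw [hX, hz] at h1
    have h2 : p ^ n = p ^ (n - z) * p ^ z := by rw [← pow_add]; congr 1; omega
    rw [h2] at h1
    exact (Nat.eq_of_mul_eq_mul_right (pow_pos hpp.pos _) h1).symm
  have hcq : Group.nilpotencyClass (X ⧸ Subgroup.center X) = n - 1 - 1 := by
    rw [Group.nilpotencyClass_quotient_center, hc]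
  obtain ⟨h1, h2⟩ := nilpotencyClass_le_of_card (n - z) (X ⧸ Subgroup.center X) hQ
  have hz1 : z = 1 := by
    rcases Nat.lt_or_ge (n - z) 2 with h | h
    · -- class of the quotient at most `1`, and not `1`
      exfalso
      have hle : n - z ≤ 1 := by omega
      rcases Nat.eq_zero_or_pos (n - z) with h0 | hpos
      · rw [h0] at h1; omega
      · have h11 : n - z = 1 := by omega
        rw [h11, pow_one] at hQ
        haveI : IsCyclic (X ⧸ Subgroup.center X) := isCyclic_of_prime_card hQ
        have hcomm : IsMulCommutative X := isMulCommutative_of_isCyclic_quotient_center_self X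
        have htop : Subgroup.center X = ⊤ := by
          rw [eq_top_iff]
          intro x _
          rw [Subgroup.mem_center_iff]
          intro g
          exact hcomm.is_comm.comm g x
        have h3 : Nat.card (X ⧸ Subgroup.center X) = 1 := by
          rw [← Subgroup.index_eq_card, htop, Subgroup.index_top]
        rw [hQ] at h3
        exact hpp.one_lt.ne' h3
    · have := h2 h
      omega
  subst hz1
  rw [pow_one] at hz
  exact ⟨hz, hQ, hcq⟩

/-- If `R` is central and `T / R` is cyclic, then `T` is abelian. -/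
theorem comm_of_cyclic_quotient_central {X : Type*} [Group X] (R : Subgroup X) [R.Normal]
    (hR : R ≤ Subgroup.center X) (Tb : Subgroup (X ⧸ R)) (hTb : IsCyclic Tb) :
    ∀ a ∈ Tb.comap (QuotientGroup.mk' R), ∀ b ∈ Tb.comap (QuotientGroup.mk' R), a * b = b * a := by
  obtain ⟨g, hg⟩ := hTb.exists_generator
  obtain ⟨t, ht⟩ := QuotientGroup.mk_surjective (g : X ⧸ R)
  have hdec : ∀ a ∈ Tb.comap (QuotientGroup.mk' R), ∃ k : ℤ, ∃ z ∈ R, a = t ^ k * z := by
    intro a ha
    rw [Subgroup.mem_comap] at ha
    obtain ⟨k, hk⟩ := Subgroup.mem_zpowers_iff.mp (hg ⟨_, ha⟩)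
    have h1 : ((t ^ k : X) : X ⧸ R) = QuotientGroup.mk' R a := by
      have h2 := congrArg Subtype.val hk
      rw [QuotientGroup.mk_zpow, ht]
      simpa using h2
    have h3 : (t ^ k)⁻¹ * a ∈ R := QuotientGroup.eq.mp h1
    exact ⟨k, (t ^ k)⁻¹ * a, h3, by group⟩
  intro a ha b hb
  obtain ⟨k, z, hz, rfl⟩ := hdec a ha
  obtain ⟨l, w, hw, rfl⟩ := hdec b hb
  have hzc : ∀ y : X, Commute z y := fun y => (Subgroup.mem_center_iff.mp (hR hz) y).symm
  have hwc : ∀ y : X, Commute w y := fun y => (Subgroup.mem_center_iff.mp (hR hw) y).symm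
  have h1 : Commute (t ^ k * z) (t ^ l * w) := by
    apply Commute.mul_left
    · exact Commute.mul_right ((Commute.refl t).zpow_zpow k l) (hwc _).symm
    · exact hzc _
  exact h1.eq

end Cfsg.Agent.Helper24
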