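import Mathlib
import Cfsg.Agent.Helper24.MaxClassBasic
import Cfsg.Agent.Helper24.NormalEA

set_option autoImplicit false

namespace Cfsg.Agent.Helper24

open scoped commutatorElement

universe u

/-- In a `p`-group with `|Z(X)| = p` and `|Z(X/Z(X))| = p`, every normal subgroup not contained
in the centre contains all elements that are central modulo the centre. -/
theorem central_mod_center_mem_of_normal {X : Type*} [Group X] [Finite X] {p : ℕ} [Fact p.Prime]
    (hX : IsPGroup p X) (hZ : Nat.card (Subgroup.center X) = p)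
    (hZ2 : Nat.card (Subgroup.center (X ⧸ Subgroup.center X)) = p)
    (N : Subgroup X) [hNn : N.Normal] (hN : ¬ N ≤ Subgroup.center X) (w : X)
    (hw : ∀ g, ⁅w, g⁆ ∈ Subgroup.center X) : w ∈ N := by
  have hpp : p.Prime := Fact.out
  haveI : Group.IsNilpotent X := hX.isNilpotent
  -- `Z ≤ N`
  have hNbot : N ≠ ⊥ := by
    rintro rfl
    exact hN bot_le
  obtain ⟨z, hzN, hz1, hzZ⟩ := exists_mem_center_of_normal N hNbot
  have hZN : Subgroup.center X ≤ N := by
    have h1 : Subgroup.zpowers z ≤ Subgroup.center X := by rwa [Subgroup.zpowers_le]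
    have h2 : Nat.card (Subgroup.zpowers z) = p := by
      have h3 : Nat.card (Subgroup.zpowers z) ∣ p := hZ ▸ Subgroup.card_dvd_of_le h1
      rcases (Nat.dvd_prime hpp).mp h3 with h4 | h4
      · exfalso
        rw [Nat.card_zpowers, orderOf_eq_one_iff] at h4
        exact hz1 h4
      · exact h4
    have h5 : Subgroup.zpowers z = Subgroup.center X :=
      Subgroup.eq_of_le_of_card_ge h1 (by rw [hZ, h2])
    rw [← h5, Subgroup.zpowers_le]
    exact hzN
  obtain ⟨u, huN, huZ, huc⟩ := exists_mem_not_mem_commutator_mem N (Subgroup.center X) hN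
  -- images in the quotient
  have hcen : ∀ v : X, (∀ g, ⁅v, g⁆ ∈ Subgroup.center X) →
      (v : X ⧸ Subgroup.center X) ∈ Subgroup.center (X ⧸ Subgroup.center X) := by
    intro v hv
    rw [Subgroup.mem_center_iff]
    intro q
    obtain ⟨g, rfl⟩ := QuotientGroup.mk_surjective q
    have h1 : ((⁅v, g⁆ : X) : X ⧸ Subgroup.center X) = 1 :=
      (QuotientGroup.eq_one_iff _).mpr (hv g)
    have h2 : ⁅(v : X ⧸ Subgroup.center X), (g : X ⧸ Subgroup.center X)⁆ = 1 := by
      rw [← h1]; rfl
    exact (commutatorElement_eq_one_iff_commute.mp h2).eq.symm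
  have hub := hcen u huc
  have hwb := hcen w hw
  have hub1 : (u : X ⧸ Subgroup.center X) ≠ 1 := by
    intro h
    exact huZ ((QuotientGroup.eq_one_iff u).mp h)
  have h1 : Subgroup.zpowers (u : X ⧸ Subgroup.center X) ≤
      Subgroup.center (X ⧸ Subgroup.center X) := by rwa [Subgroup.zpowers_le]
  have h2 : Nat.card (Subgroup.zpowers (u : X ⧸ Subgroup.center X)) = p := by
    have h3 : Nat.card (Subgroup.zpowers (u : X ⧸ Subgroup.center X)) ∣ p :=
      hZ2 ▸ Subgroup.card_dvd_of_le h1
    rcases (Nat.dvd_prime hpp).mp h3 with h4 | h4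
    · exfalso
      rw [Nat.card_zpowers, orderOf_eq_one_iff] at h4
      exact hub1 h4
    · exact h4
  have h5 : Subgroup.zpowers (u : X ⧸ Subgroup.center X) =
      Subgroup.center (X ⧸ Subgroup.center X) :=
    Subgroup.eq_of_le_of_card_ge h1 (by rw [hZ2, h2])
  rw [← h5] at hwb
  obtain ⟨k, hk⟩ := Subgroup.mem_zpowers_iff.mp hwb
  have h6 : ((u ^ k : X) : X ⧸ Subgroup.center X) = (w : X ⧸ Subgroup.center X) := by
    rw [QuotientGroup.mk_zpow]; exact hk
  have h7 : (u ^ k)⁻¹ * w ∈ Subgroup.center X := QuotientGroup.eq.mp h6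
  have h8 : w = u ^ k * ((u ^ k)⁻¹ * w) := by group
  rw [h8]
  exact N.mul_mem (N.zpow_mem huN k) (hZN h7)

/-- In a `2`-group with centre of order `2` and an abelian subgroup `T` of index `2`, the
commutators `[t, x]` (`t ∈ T`, `x ∉ T` fixed) form a cyclic normal subgroup of index `4`. -/
theorem exists_cyclic_normal_of_abelian_index_two {X : Type*} [Group X] [Finite X]
    (hX : IsPGroup 2 X) (T : Subgroup X) (hTi : T.index = 2)
    (hTc : ∀ a ∈ T, ∀ b ∈ T, a * b = b * a) (hZ : Nat.card (Subgroup.center X) = 2)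
    (hZT : Subgroup.center X ≤ T) :
    ∃ D : Subgroup X, D.Normal ∧ D ≤ T ∧ IsCyclic D ∧ Nat.card D * 4 = Nat.card X := by
  haveI : Fact (Nat.Prime 2) := ⟨Nat.prime_two⟩
  haveI hTn : T.Normal := Subgroup.normal_of_index_eq_two hTi
  obtain ⟨x, hxT⟩ : ∃ x, x ∉ T := by
    by_contra h
    push Not at h
    have htop : T = ⊤ := by rw [eq_top_iff]; intro a _; exact h a
    rw [htop, Subgroup.index_top] at hTi
    omega
  have hx2 : x * x ∈ T := by
    have := T.pow_index_mem x
    rwa [hTi, pow_two] at this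
  have hcases : ∀ g : X, g ∈ T ∨ ∃ s ∈ T, g = s * x := by
    intro g
    by_cases hg : g ∈ T
    · exact Or.inl hg
    · right
      refine ⟨g * x⁻¹, ?_, by group⟩
      rw [Subgroup.mul_mem_iff_of_index_two hTi]
      constructor
      · intro h; exact absurd h hg
      · intro h; exact absurd (T.inv_mem_iff.mp h) hxT
  have hθmem : ∀ t ∈ T, ⁅t, x⁆ ∈ T := by
    intro t ht
    have h1 : ⁅t, x⁆ = t * (x * t⁻¹ * x⁻¹) := by rw [commutatorElement_def]; group
    rw [h1]; exact T.mul_mem ht (hTn.conj_mem _ (T.inv_mem ht) x)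
  let θ : T →* T := MonoidHom.mk' (fun t => ⟨⁅(t : X), x⁆, hθmem t t.2⟩) (by
    intro t s
    apply Subtype.ext
    show ⁅(t : X) * (s : X), x⁆ = ⁅(t : X), x⁆ * ⁅(s : X), x⁆
    have h1 : ⁅(t : X) * (s : X), x⁆ = (t : X) * ⁅(s : X), x⁆ * (t : X)⁻¹ * ⁅(t : X), x⁆ := by
      simp only [commutatorElement_def]; group
    rw [h1, hTc _ t.2 _ (hθmem s s.2), mul_inv_cancel_right,
      hTc _ (hθmem s s.2) _ (hθmem t t.2)])
  have hθ : ∀ t : T, ((θ t : T) : X) = ⁅(t : X), x⁆ := fun t => rfl
  have hker : ∀ t : T, t ∈ θ.ker ↔ (t : X) ∈ Subgroup.center X := by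
    intro t
    rw [MonoidHom.mem_ker]
    constructor
    · intro h
      have h1 : ⁅(t : X), x⁆ = 1 := by rw [← hθ, h]; rfl
      have h2 : (t : X) * x = x * t := (commutatorElement_eq_one_iff_commute.mp h1).eq
      rw [Subgroup.mem_center_iff]
      intro g
      rcases hcases g with hg | ⟨s, hs, rfl⟩
      · exact hTc g hg t t.2
      · rw [mul_assoc, ← h2, ← mul_assoc, hTc s hs t t.2, mul_assoc]
    · intro h
      apply Subtype.ext
      rw [hθ]
      show ⁅(t : X), x⁆ = 1
      rw [commutatorElement_eq_one_iff_commute]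
      exact (Subgroup.mem_center_iff.mp h x).symm
  have hkercard : Nat.card θ.ker = 2 := by
    rw [← hZ]
    apply Nat.card_congr
    exact
      { toFun := fun t => ⟨(t.1 : X), (hker t.1).mp t.2⟩
        invFun := fun z => ⟨⟨z.1, hZT z.2⟩, (hker _).mpr z.2⟩
        left_inv := fun t => rfl
        right_inv := fun z => rfl }
  have hxx : ∀ t ∈ T, x * x * t = t * (x * x) := fun t ht => hTc _ hx2 _ ht
  have hθθ : ∀ t : T, θ (θ t) = θ t * θ t := by
    intro t
    apply Subtype.ext
    show ⁅⁅(t : X), x⁆, x⁆ = ⁅(t : X), x⁆ * ⁅(t : X), x⁆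
    have h1 : ⁅⁅(t : X), x⁆, x⁆ = (t : X) * (x * (t : X)⁻¹ * x⁻¹) *
        (x * (x * (t : X) * x⁻¹) * x⁻¹) * (x * (t : X)⁻¹ * x⁻¹) := by
      simp only [commutatorElement_def]; group
    have h2 : x * (x * (t : X) * x⁻¹) * x⁻¹ = (t : X) := by
      calc x * (x * (t : X) * x⁻¹) * x⁻¹ = (x * x * (t : X)) * x⁻¹ * x⁻¹ := by group
        _ = (t : X) := by rw [hxx _ t.2]; group
    rw [h1, h2]
    simp only [commutatorElement_def]; group
  -- the image is cyclic
  have hcyc : IsCyclic θ.range := by
    apply isCyclic_of_card_omega_le (p := 2) ((hX.to_subgroup T).to_subgroup θ.range)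
      (fun a b => Subtype.ext (Subtype.ext (hTc _ (a : T).2 _ (b : T).2)))
      (θ.ker.subgroupOf θ.range)
    · intro u
      rw [Subgroup.mem_subgroupOf, MonoidHom.mem_ker]
      obtain ⟨t, ht⟩ := u.2
      have h1 : θ (u : T) = (u : T) * (u : T) := by rw [← ht]; exact hθθ t
      rw [h1, pow_two]
      constructor
      · intro h
        exact Subtype.ext h
      · intro h
        have := congrArg Subtype.val h
        exact this
    · rw [← hkercard]
      exact Nat.card_le_card_of_injective (fun k : θ.ker.subgroupOf θ.range =>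
        (⟨(k.1 : T), k.2⟩ : θ.ker)) (fun a b hab => by
          have h1 : ((a.1 : θ.range) : T) = ((b.1 : θ.range) : T) :=
            congrArg (fun k : θ.ker => (k : T)) hab
          exact Subtype.ext (Subtype.ext h1))
  have hDmem : ∀ d ∈ θ.range.map T.subtype, ∃ t : T, d = ⁅(t : X), x⁆ := by
    intro d hd
    rw [Subgroup.mem_map] at hd
    obtain ⟨y, ⟨t, rfl⟩, rfl⟩ := hd
    exact ⟨t, rfl⟩
  have hDT : θ.range.map T.subtype ≤ T := by
    intro d hd
    obtain ⟨t, rfl⟩ := hDmem d hd
    exact hθmem t t.2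
  refine ⟨θ.range.map T.subtype, ⟨fun d hd g => ?_⟩, hDT, ?_, ?_⟩
  · have hdT := hDT hd
    obtain ⟨t, rfl⟩ := hDmem d hd
    rcases hcases g with hg | ⟨s, hs, rfl⟩
    · have h1 : g * ⁅(t : X), x⁆ * g⁻¹ = ⁅(t : X), x⁆ := by
        rw [hTc g hg _ hdT, mul_inv_cancel_right]
      rw [h1]; exact hd
    · have h1 : x * ⁅(t : X), x⁆ * x⁻¹ = (⁅(t : X), x⁆)⁻¹ := by
        have h2 : x * ⁅(t : X), x⁆ * x⁻¹ = (x * (t : X) * x⁻¹) * (x * x * (t : X)⁻¹) * x⁻¹ * x⁻¹ := by
          simp only [commutatorElement_def]; group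
        rw [h2, hxx _ (T.inv_mem t.2)]
        simp only [commutatorElement_def]; group
      have h3 : s * x * ⁅(t : X), x⁆ * (s * x)⁻¹ = s * (x * ⁅(t : X), x⁆ * x⁻¹) * s⁻¹ := by group
      rw [h3, h1, hTc s hs _ (T.inv_mem hdT), mul_inv_cancel_right]
      exact Subgroup.inv_mem _ hd
  · exact (Subgroup.equivMapOfInjective θ.range T.subtype T.subtype_injective).isCyclic.mp hcyc
  · rw [Subgroup.card_map_of_injective T.subtype_injective]
    have h1 := Subgroup.card_mul_index θ.ker
    rw [Subgroup.index_ker, hkercard] at h1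
    have h2 := Subgroup.card_mul_index T
    rw [hTi] at h2
    rw [← h2, ← h1]; ring

/-- A `2`-group of maximal class and order at least `8` has a cyclic subgroup of index `2`. -/
theorem exists_cyclic_index_two_of_maximal_class (n : ℕ) (hn : 3 ≤ n) :
    ∀ (X : Type u) [Group X] [Finite X], Nat.card X = 2 ^ n → Group.nilpotencyClass X = n - 1 →
      ∃ C : Subgroup X, IsCyclic C ∧ C.index = 2 := by
  haveI : Fact (Nat.Prime 2) := ⟨Nat.prime_two⟩
  induction n, hn using Nat.le_induction with
  | base =>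
    intro X _ _ hX hc
    obtain ⟨hZ, -, -⟩ := card_center_of_maximal_class (p := 2) 3 le_rfl hX hc
    have hncomm : ¬ ∀ a b : X, a * b = b * a := by
      intro hcomm
      have htop : Subgroup.center X = ⊤ := by
        rw [eq_top_iff]
        intro x _
        rw [Subgroup.mem_center_iff]
        intro g
        exact hcomm g x
      rw [htop, Subgroup.card_top, hX] at hZ
      norm_num at hZ
    obtain ⟨x, hx⟩ : ∃ x : X, x * x ≠ 1 := by
      by_contra h
      push Not at h
      apply hncomm
      have hinv : ∀ a : X, a⁻¹ = a := fun a => inv_eq_of_mul_eq_one_left (h a)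
      intro a b
      calc a * b = (a * b)⁻¹ := (hinv (a * b)).symm
        _ = b⁻¹ * a⁻¹ := mul_inv_rev a b
        _ = b * a := by rw [hinv a, hinv b]
    have hord : orderOf x ∣ 2 ^ 3 := hX ▸ orderOf_dvd_natCard x
    obtain ⟨k, hk, hkx⟩ := (Nat.dvd_prime_pow Nat.prime_two).mp hord
    have hk2 : k = 2 := by
      interval_cases k
      · exfalso
        rw [pow_zero, orderOf_eq_one_iff] at hkx
        rw [hkx, one_mul] at hx
        exact hx rfl
      · exfalso
        apply hx
        rw [← pow_two]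
        have := pow_orderOf_eq_one x
        rwa [hkx, pow_one] at this
      · rfl
      · exfalso
        apply hncomm
        have hcyc : IsCyclic X := isCyclic_of_orderOf_eq_card x (by rw [hkx, hX])
        intro a b
        exact (IsCyclic.commGroup).mul_comm a b
    refine ⟨Subgroup.zpowers x, inferInstance, ?_⟩
    have h1 := Subgroup.card_mul_index (Subgroup.zpowers x)
    rw [Nat.card_zpowers, hkx, hk2, hX] at h1
    omega
  | succ n hn ih =>
    intro X _ _ hX hc
    have hPG : IsPGroup 2 X := IsPGroup.of_card hX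
    obtain ⟨hZ, hQ, hcq⟩ := card_center_of_maximal_class (p := 2) (n + 1) (by omega) hX hc
    rw [Nat.add_sub_cancel] at hQ hcq
    obtain ⟨Tb, hTbc, hTbi⟩ := ih (X ⧸ Subgroup.center X) hQ hcq
    obtain ⟨T, hT⟩ : ∃ T : Subgroup X, T = Tb.comap (QuotientGroup.mk' (Subgroup.center X)) :=
      ⟨_, rfl⟩
    have hTi : T.index = 2 := by
      rw [hT, Subgroup.index_comap_of_surjective Tb (QuotientGroup.mk'_surjective _), hTbi]
    have hTc : ∀ a ∈ T, ∀ b ∈ T, a * b = b * a := by
      rw [hT]
      exact comm_of_cyclic_quotient_central (Subgroup.center X) le_rfl Tb hTbc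
    have hZT : Subgroup.center X ≤ T := by
      intro z hz
      rw [hT, Subgroup.mem_comap]
      have : QuotientGroup.mk' (Subgroup.center X) z = 1 := (QuotientGroup.eq_one_iff z).mpr hz
      rw [this]
      exact Tb.one_mem
    by_cases hTcyc : IsCyclic T
    · exact ⟨T, hTcyc, hTi⟩
    exfalso
    haveI hTn : T.Normal := Subgroup.normal_of_index_eq_two hTi
    obtain ⟨D, hDn, hDT, hDc, hDcard⟩ :=
      exists_cyclic_normal_of_abelian_index_two hPG T hTi hTc hZ hZT
    haveI := hDn
    -- `Ω₁(T)`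
    let E : Subgroup X :=
      { carrier := {a | a ∈ T ∧ a ^ 2 = 1}
        one_mem' := ⟨T.one_mem, one_pow 2⟩
        mul_mem' := by
          rintro a b ⟨ha, hap⟩ ⟨hb, hbp⟩
          refine ⟨T.mul_mem ha hb, ?_⟩
          rw [Commute.mul_pow (hTc a ha b hb), hap, hbp, one_mul]
        inv_mem' := by
          rintro a ⟨ha, hap⟩
          exact ⟨T.inv_mem ha, by rw [inv_pow, hap, inv_one]⟩ }
    have hEmem : ∀ a, a ∈ E ↔ a ∈ T ∧ a ^ 2 = 1 := fun a => Iff.rfl
    haveI hEn : E.Normal := by
      refine ⟨fun a ha g => ?_⟩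
      rw [hEmem] at ha ⊢
      exact ⟨hTn.conj_mem a ha.1 g, by rw [conj_pow, ha.2, mul_one, mul_inv_cancel]⟩
    have hET : E ≤ T := fun a ha => ((hEmem a).mp ha).1
    have hEnZ : ¬ E ≤ Subgroup.center X := by
      intro hEZ
      apply hTcyc
      apply isCyclic_of_card_omega_le (p := 2) (hPG.to_subgroup T)
        (fun a b => Subtype.ext (hTc a a.2 b b.2)) (E.subgroupOf T)
      · intro y
        rw [Subgroup.mem_subgroupOf, hEmem]
        constructor
        · intro h
          apply Subtype.ext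
          simpa using h.2
        · intro h
          refine ⟨y.2, ?_⟩
          have := congrArg Subtype.val h
          simpa using this
      · have h1 : Nat.card (E.subgroupOf T) = Nat.card E :=
          Nat.card_congr (Subgroup.subgroupOfEquivOfLe hET).toEquiv
        rw [h1, ← hZ]
        exact Subgroup.card_le_of_le hEZ
    have hDnZ : ¬ D ≤ Subgroup.center X := by
      intro hDZ
      have h1 := Subgroup.card_le_of_le hDZ
      rw [hZ] at h1
      have h2 : Nat.card X ≤ 8 := by rw [← hDcard]; omega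
      rw [hX] at h2
      have h3 : 2 ^ 4 ≤ 2 ^ (n + 1) := Nat.pow_le_pow_right (by norm_num) (by omega)
      omega
    -- an element `w` central modulo the centre, outside the centre
    obtain ⟨hZ2, -, -⟩ := card_center_of_maximal_class (p := 2) n hn hQ hcq
    haveI : Group.IsNilpotent X := hPG.isNilpotent
    obtain ⟨w, -, hwZ, hwc⟩ := exists_mem_not_mem_commutator_mem (⊤ : Subgroup X)
      (Subgroup.center X) (by
        intro h
        have h1 := Subgroup.card_le_of_le h
        rw [Subgroup.card_top, hX, hZ] at h1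
        have h3 : 2 ^ 4 ≤ 2 ^ (n + 1) := Nat.pow_le_pow_right (by norm_num) (by omega)
        omega)
    have hwE : w ∈ E := central_mod_center_mem_of_normal hPG hZ hZ2 E hEnZ w hwc
    have hwD : w ∈ D := central_mod_center_mem_of_normal hPG hZ hZ2 D hDnZ w hwc
    have hZE : Subgroup.center X ≤ E := fun z hz =>
      central_mod_center_mem_of_normal hPG hZ hZ2 E hEnZ z (fun g => by
        have : ⁅z, g⁆ = 1 := by
          rw [commutatorElement_eq_one_iff_commute]
          exact (Subgroup.mem_center_iff.mp hz g).symm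
        rw [this]; exact Subgroup.one_mem _)
    have hZD : Subgroup.center X ≤ D := fun z hz =>
      central_mod_center_mem_of_normal hPG hZ hZ2 D hDnZ z (fun g => by
        have : ⁅z, g⁆ = 1 := by
          rw [commutatorElement_eq_one_iff_commute]
          exact (Subgroup.mem_center_iff.mp hz g).symm
        rw [this]; exact Subgroup.one_mem _)
    have hw2 : w ^ 2 = 1 := ((hEmem w).mp hwE).2
    -- `W = Z ⊔ ⟨w⟩` has order `4`, exponent `2`, and is cyclic
    obtain ⟨W, hW⟩ : ∃ W : Subgroup X, W = Subgroup.center X ⊔ Subgroup.zpowers w := ⟨_, rfl⟩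
    have hWcard : Nat.card W = 4 := by
      rw [hW, card_sup_zpowers_of_pow_prime Nat.prime_two (Subgroup.center X) w hwZ hw2, hZ]
    have hWE : W ≤ E := by
      rw [hW]; exact sup_le hZE (by rwa [Subgroup.zpowers_le])
    have hWD : W ≤ D := by
      rw [hW]; exact sup_le hZD (by rwa [Subgroup.zpowers_le])
    haveI := hDc
    have hWcyc : IsCyclic W :=
      (Subgroup.subgroupOfEquivOfLe hWD).isCyclic.mp inferInstance
    obtain ⟨g, hg⟩ := hWcyc.exists_ofOrder_eq_natCard
    rw [hWcard] at hg
    have hg2 : g ^ 2 = 1 := by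
      apply Subtype.ext
      have := ((hEmem (g : X)).mp (hWE g.2)).2
      simpa using this
    have := orderOf_dvd_of_pow_eq_one hg2
    rw [hg] at this
    norm_num at this

end Cfsg.Agent.Helper24
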