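import Mathlib
import Cfsg.Agent.Lead.PGroup
import Cfsg.Agent.Helper24.PGroupBasic
import Cfsg.Agent.Helper24.MaxClassCyclic

set_option autoImplicit false

namespace Cfsg.Agent.Helper24

open scoped commutatorElement

universe u

/-- The abelianisation is a Klein four-group iff the derived subgroup has index `4` and contains
all squares. -/
theorem isKleinFour_abelianization_iff {X : Type*} [Group X] :
    IsKleinFour (X ⧸ commutator X) ↔
      (commutator X).index = 4 ∧ ∀ g : X, g ^ 2 ∈ commutator X := by
  constructor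
  · intro h
    refine ⟨by rw [Subgroup.index_eq_card]; exact h.card_four, fun g => ?_⟩
    rw [← QuotientGroup.eq_one_iff, QuotientGroup.mk_pow, ← h.exponent_two]
    exact Monoid.pow_exponent_eq_one _
  · rintro ⟨h1, h2⟩
    have hcard : Nat.card (X ⧸ commutator X) = 4 := by rw [← Subgroup.index_eq_card]; exact h1
    refine ⟨hcard, ?_⟩
    have hdvd : Monoid.exponent (X ⧸ commutator X) ∣ 2 := by
      apply Monoid.exponent_dvd_of_forall_pow_eq_one
      intro q
      obtain ⟨g, rfl⟩ := QuotientGroup.mk_surjective q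
      rw [← QuotientGroup.mk_pow, QuotientGroup.eq_one_iff]
      exact h2 g
    rcases (Nat.dvd_prime Nat.prime_two).mp hdvd with h3 | h3
    · exfalso
      rw [Monoid.exp_eq_one_iff] at h3
      have : Nat.card (X ⧸ commutator X) ≤ 1 := Finite.card_le_one_iff_subsingleton.mpr h3
      omega
    · exact h3

/-- In a non-abelian group, an abelian subgroup of index two contains the centre. -/
theorem center_le_of_index_two_abelian {X : Type*} [Group X] (T : Subgroup X) (hTi : T.index = 2)
    (hTc : ∀ a ∈ T, ∀ b ∈ T, a * b = b * a) (hnc : ¬ ∀ a b : X, a * b = b * a) :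
    Subgroup.center X ≤ T := by
  intro z hz
  by_contra hzT
  apply hnc
  have hcases : ∀ g : X, g ∈ T ∨ ∃ s ∈ T, g = s * z := by
    intro g
    by_cases hg : g ∈ T
    · exact Or.inl hg
    · right
      refine ⟨g * z⁻¹, ?_, by group⟩
      rw [Subgroup.mul_mem_iff_of_index_two hTi]
      constructor
      · intro h; exact absurd h hg
      · intro h; exact absurd (T.inv_mem_iff.mp h) hzT
  have hzc : ∀ y : X, Commute z y := fun y => (Subgroup.mem_center_iff.mp hz y).symm
  intro a b
  rcases hcases a with ha | ⟨s, hs, rfl⟩ <;> rcases hcases b with hb | ⟨t, ht, rfl⟩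
  · exact hTc a ha b hb
  · have h1 : Commute a (t * z) := Commute.mul_right (hTc a ha t ht) (hzc a).symm
    exact h1.eq
  · have h1 : Commute (s * z) b := Commute.mul_left (hTc s hs b hb) (hzc b)
    exact h1.eq
  · have h1 : Commute (s * z) (t * z) :=
      Commute.mul_left (Commute.mul_right (hTc s hs t ht) (hzc s).symm) (hzc _)
    exact h1.eq

/-- Counting in a non-abelian `2`-group with an abelian subgroup of index `2`:
`|T| = |X'| · |Z(X)|`. -/
theorem card_eq_commutator_mul_center_of_index_two {X : Type*} [Group X] [Finite X]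
    (T : Subgroup X) (hTi : T.index = 2) (hTc : ∀ a ∈ T, ∀ b ∈ T, a * b = b * a)
    (hnc : ¬ ∀ a b : X, a * b = b * a) :
    Nat.card T = Nat.card (commutator X) * Nat.card (Subgroup.center X) := by
  haveI hTn : T.Normal := Subgroup.normal_of_index_eq_two hTi
  obtain ⟨x, hxT⟩ : ∃ x, x ∉ T := by
    by_contra h
    push Not at h
    have htop : T = ⊤ := by rw [eq_top_iff]; intro a _; exact h a
    rw [htop, Subgroup.index_top] at hTi
    omega
  exact card_abelian_eq_commutator_mul_center T hTc
    (center_le_of_index_two_abelian T hTi hTc hnc) x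
    (closure_insert_eq_top T Nat.prime_two hTi hxT)

/-- Taussky, forward direction. -/
theorem klein_of_maximal_class {X : Type u} [Group X] [Finite X] (n : ℕ) (hn : 3 ≤ n)
    (hX : Nat.card X = 2 ^ n) (hc : Group.nilpotencyClass X = n - 1) :
    (commutator X).index = 4 ∧ ∀ g : X, g ^ 2 ∈ commutator X := by
  haveI : Fact (Nat.Prime 2) := ⟨Nat.prime_two⟩
  have hPG : IsPGroup 2 X := IsPGroup.of_card hX
  obtain ⟨hZ, -, -⟩ := card_center_of_maximal_class (p := 2) n hn hX hc
  have hncomm : ¬ ∀ a b : X, a * b = b * a := by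
    intro hcomm
    have htop : Subgroup.center X = ⊤ := by
      rw [eq_top_iff]
      intro x _
      rw [Subgroup.mem_center_iff]
      intro g
      exact hcomm g x
    rw [htop, Subgroup.card_top, hX] at hZ
    have h3 : 2 ^ 3 ≤ 2 ^ n := Nat.pow_le_pow_right (by norm_num) hn
    omega
  obtain ⟨C, hCc, hCi⟩ := exists_cyclic_index_two_of_maximal_class n hn X hX hc
  have hCcomm : ∀ a ∈ C, ∀ b ∈ C, a * b = b * a := by
    intro a ha b hb
    haveI := hCc
    have := (IsCyclic.commGroup (α := C)).mul_comm ⟨a, ha⟩ ⟨b, hb⟩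
    exact congrArg Subtype.val this
  have h1 := card_eq_commutator_mul_center_of_index_two C hCi hCcomm hncomm
  have h2 := Subgroup.card_mul_index C
  rw [hCi, hX, h1, hZ] at h2
  have h3 := Subgroup.card_mul_index (commutator X)
  rw [hX] at h3
  have hidx : (commutator X).index = 4 := by
    have hpos : 0 < Nat.card (commutator X) := Nat.card_pos
    have h4 : Nat.card (commutator X) * (commutator X).index = Nat.card (commutator X) * 4 := by
      rw [h3, ← h2]; ring
    exact Nat.eq_of_mul_eq_mul_left hpos h4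
  refine ⟨hidx, fun g => ?_⟩
  by_contra hg
  apply hncomm
  have hcard : Nat.card (X ⧸ commutator X) = 4 := by rw [← Subgroup.index_eq_card]; exact hidx
  have hg2 : (g : X ⧸ commutator X) ^ 2 ≠ 1 := by
    intro h
    rw [← QuotientGroup.mk_pow, QuotientGroup.eq_one_iff] at h
    exact hg h
  have hord : orderOf (g : X ⧸ commutator X) = 4 := by
    have hd : orderOf (g : X ⧸ commutator X) ∣ 2 ^ 2 := by
      have := orderOf_dvd_natCard (g : X ⧸ commutator X)
      rwa [hcard] at this
    obtain ⟨k, hk, hkx⟩ := (Nat.dvd_prime_pow Nat.prime_two).mp hd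
    interval_cases k
    · exfalso
      rw [pow_zero, orderOf_eq_one_iff] at hkx
      rw [hkx, one_pow] at hg2
      exact hg2 rfl
    · exfalso
      apply hg2
      have := pow_orderOf_eq_one (g : X ⧸ commutator X)
      rwa [hkx, pow_one] at this
    · rw [hkx]; norm_num
  have hztop : Subgroup.zpowers (g : X ⧸ commutator X) = ⊤ := by
    apply Subgroup.eq_top_of_card_eq
    rw [Nat.card_zpowers, hord, hcard]
  have hsup : Subgroup.zpowers g ⊔ frattini X = ⊤ := by
    rw [eq_top_iff]
    intro y _
    have hy : (y : X ⧸ commutator X) ∈ Subgroup.zpowers (g : X ⧸ commutator X) :=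
      hztop ▸ Subgroup.mem_top _
    obtain ⟨k, hk⟩ := Subgroup.mem_zpowers_iff.mp hy
    have h6 : ((g ^ k : X) : X ⧸ commutator X) = (y : X ⧸ commutator X) := by
      rw [QuotientGroup.mk_zpow]; exact hk
    have h7 : (g ^ k)⁻¹ * y ∈ commutator X := QuotientGroup.eq.mp h6
    have h8 : y = g ^ k * ((g ^ k)⁻¹ * y) := by group
    rw [h8]
    exact Subgroup.mul_mem _
      ((le_sup_left : Subgroup.zpowers g ≤ _) (Subgroup.zpow_mem _ (Subgroup.mem_zpowers g) k))
      ((le_sup_right : frattini X ≤ _) (Cfsg.Agent.Lead.commutator_le_frattini hPG h7))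
  have hz : Subgroup.zpowers g = ⊤ := frattini_nongenerating hsup
  intro a b
  have ha : a ∈ Subgroup.zpowers g := hz ▸ Subgroup.mem_top a
  have hb : b ∈ Subgroup.zpowers g := hz ▸ Subgroup.mem_top b
  obtain ⟨k, rfl⟩ := Subgroup.mem_zpowers_iff.mp ha
  obtain ⟨l, rfl⟩ := Subgroup.mem_zpowers_iff.mp hb
  exact ((Commute.refl g).zpow_zpow k l).eq

/-- Taussky, converse direction. -/
theorem maximal_class_of_klein (n : ℕ) (hn : 3 ≤ n) :
    ∀ (X : Type u) [Group X] [Finite X], Nat.card X = 2 ^ n → (commutator X).index = 4 →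
      (∀ g : X, g ^ 2 ∈ commutator X) → Group.nilpotencyClass X = n - 1 := by
  haveI : Fact (Nat.Prime 2) := ⟨Nat.prime_two⟩
  induction n, hn using Nat.le_induction with
  | base =>
    intro X _ _ hX hidx _
    have hPG : IsPGroup 2 X := IsPGroup.of_card hX
    haveI : Group.IsNilpotent X := hPG.isNilpotent
    have hle := (nilpotencyClass_le_of_card (p := 2) 3 X hX).2 (by norm_num)
    have hge : ¬ Group.nilpotencyClass X ≤ 1 := by
      intro h1
      rw [← Subgroup.lowerCentralSeries_eq_bot_iff_nilpotencyClass_le,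
        Subgroup.top_lowerCentralSeries_one] at h1
      rw [h1, Subgroup.index_bot, hX] at hidx
      norm_num at hidx
    omega
  | succ n hn ih =>
    intro X _ _ hX hidx hsq
    have hPG : IsPGroup 2 X := IsPGroup.of_card hX
    haveI : Group.IsNilpotent X := hPG.isNilpotent
    haveI : Nontrivial X := by
      apply Finite.one_lt_card_iff_nontrivial.mp
      rw [hX]
      exact Nat.one_lt_pow (by omega) (by norm_num)
    have hXcard' : Nat.card (commutator X) * 4 = 2 ^ (n + 1) := by
      rw [← hidx, ← hX]; exact Subgroup.card_mul_index _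
    have hcomm_ne : commutator X ≠ ⊥ := by
      intro h
      rw [h, Subgroup.card_bot] at hXcard'
      have h3 : 2 ^ 4 ≤ 2 ^ (n + 1) := Nat.pow_le_pow_right (by norm_num) (by omega)
      omega
    have hncomm : ¬ ∀ a b : X, a * b = b * a := by
      intro hcomm
      apply hcomm_ne
      rw [commutator_def, Subgroup.commutator_eq_bot_iff_le_centralizer]
      intro a _
      rw [Subgroup.mem_centralizer_iff]
      intro b _
      exact hcomm b a
    -- a central subgroup of order two inside the derived subgroup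
    obtain ⟨r, hrX', hr1, hrZ⟩ := exists_mem_center_of_normal (commutator X) hcomm_ne
    have hord : orderOf r ∣ 2 ^ (n + 1) := hX ▸ orderOf_dvd_natCard r
    obtain ⟨k, hk, hkr⟩ := (Nat.dvd_prime_pow Nat.prime_two).mp hord
    have hk0 : k ≠ 0 := by
      rintro rfl
      rw [pow_zero, orderOf_eq_one_iff] at hkr
      exact hr1 hkr
    obtain ⟨r', hr'⟩ : ∃ r' : X, r' = r ^ 2 ^ (k - 1) := ⟨_, rfl⟩
    have hr'2 : r' ^ 2 = 1 := by
      rw [hr', ← pow_mul, ← pow_succ, Nat.sub_add_cancel (by omega), ← hkr]
      exact pow_orderOf_eq_one r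
    have hr'1 : r' ≠ 1 := by
      rw [hr']
      apply pow_ne_one_of_lt_orderOf (by positivity)
      rw [hkr]
      exact Nat.pow_lt_pow_right (by norm_num) (by omega)
    have hr'X' : r' ∈ commutator X := hr' ▸ Subgroup.pow_mem _ hrX' _
    have hr'Z : r' ∈ Subgroup.center X := hr' ▸ Subgroup.pow_mem _ hrZ _
    obtain ⟨R, hR⟩ : ∃ R : Subgroup X, R = Subgroup.zpowers r' := ⟨_, rfl⟩
    have hRZ : R ≤ Subgroup.center X := by rw [hR, Subgroup.zpowers_le]; exact hr'Z
    have hRX' : R ≤ commutator X := by rw [hR, Subgroup.zpowers_le]; exact hr'X'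
    have hRcard : Nat.card R = 2 := by
      rw [hR, Nat.card_zpowers]
      exact orderOf_eq_prime hr'2 hr'1
    haveI hRn : R.Normal := ⟨fun d hd g => by
      have := Subgroup.mem_center_iff.mp (hRZ hd) g
      rw [this, mul_inv_cancel_right]; exact hd⟩
    -- the quotient
    have hQcard : Nat.card (X ⧸ R) = 2 ^ n := by
      have h1 := Subgroup.card_eq_card_quotient_mul_card_subgroup R
      rw [hX, hRcard, pow_succ] at h1
      exact (Nat.eq_of_mul_eq_mul_right (by norm_num) h1).symm
    have hQcomm : commutator (X ⧸ R) = (commutator X).map (QuotientGroup.mk' R) := by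
      rw [commutator_def, commutator_def, Subgroup.map_commutator,
        Subgroup.map_top_of_surjective _ (QuotientGroup.mk'_surjective R)]
    have hQidx : (commutator (X ⧸ R)).index = 4 := by
      rw [hQcomm, Subgroup.index_map, QuotientGroup.ker_mk', sup_of_le_left hRX',
        MonoidHom.range_eq_top.mpr (QuotientGroup.mk'_surjective R), Subgroup.index_top, mul_one]
      exact hidx
    have hQsq : ∀ q : X ⧸ R, q ^ 2 ∈ commutator (X ⧸ R) := by
      intro q
      obtain ⟨g, rfl⟩ := QuotientGroup.mk_surjective q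
      rw [hQcomm]
      exact ⟨g ^ 2, hsq g, rfl⟩
    have hQclass := ih (X ⧸ R) hQcard hQidx hQsq
    obtain ⟨Tb, hTbc, hTbi⟩ :=
      exists_cyclic_index_two_of_maximal_class n hn (X ⧸ R) hQcard hQclass
    obtain ⟨T, hT⟩ : ∃ T : Subgroup X, T = Tb.comap (QuotientGroup.mk' R) := ⟨_, rfl⟩
    have hTi : T.index = 2 := by
      rw [hT, Subgroup.index_comap_of_surjective Tb (QuotientGroup.mk'_surjective _), hTbi]
    have hTc : ∀ a ∈ T, ∀ b ∈ T, a * b = b * a := by
      rw [hT]
      exact comm_of_cyclic_quotient_central R hRZ Tb hTbc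
    have h1 := card_eq_commutator_mul_center_of_index_two T hTi hTc hncomm
    have h2 := Subgroup.card_mul_index T
    rw [hTi, hX, h1] at h2
    have hZcard : Nat.card (Subgroup.center X) = 2 := by
      have hpos : 0 < Nat.card (commutator X) := Nat.card_pos
      have h4 : Nat.card (commutator X) * (Nat.card (Subgroup.center X) * 2) =
          Nat.card (commutator X) * 4 := by
        rw [hXcard', ← h2]; ring
      have := Nat.eq_of_mul_eq_mul_left hpos h4
      omega
    have hRZeq : R = Subgroup.center X :=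
      Subgroup.eq_of_le_of_card_ge hRZ (by rw [hRcard, hZcard])
    have hfinal : ∀ (R : Subgroup X) [R.Normal], R = Subgroup.center X →
        Group.nilpotencyClass (X ⧸ R) = Group.nilpotencyClass (X ⧸ Subgroup.center X) := by
      rintro R _ rfl
      rfl
    rw [Group.nilpotencyClass_eq_quotient_center_plus_one, ← hfinal R hRZeq, hQclass]
    omega

/-- Taussky's theorem. -/
theorem maximal_class_iff_klein {X : Type u} [Group X] [Finite X] (n : ℕ) (hn : 3 ≤ n)
    (hX : Nat.card X = 2 ^ n) :
    Group.nilpotencyClass X = n - 1 ↔ IsKleinFour (X ⧸ commutator X) := by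
  rw [isKleinFour_abelianization_iff]
  constructor
  · intro hc
    exact klein_of_maximal_class n hn hX hc
  · rintro ⟨h1, h2⟩
    exact maximal_class_of_klein n hn X hX h1 h2

end Cfsg.Agent.Helper24
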