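import Mathlib
import Cfsg.Agent.Helper8.QDLift
import Cfsg.Agent.Helper24.CyclicMax
import Cfsg.Agent.Helper24.MaxClassTaussky

set_option autoImplicit false

namespace Cfsg.Agent.Helper24

open scoped commutatorElement

universe u

/-- If `r ^ 2 ≡ 1 (mod 2 ^ (k + 1))` then `r ≡ ±1 (mod 2 ^ k)`. -/
theorem two_pow_dvd_of_sq_modEq_one {r k : ℕ} (h : r ^ 2 ≡ 1 [MOD 2 ^ (k + 1)]) :
    r ≡ 1 [MOD 2 ^ k] ∨ 2 ^ k ∣ r + 1 := by
  have hodd : r % 2 = 1 := by
    have h2 : r ^ 2 ≡ 1 [MOD 2] := h.of_dvd (dvd_pow_self 2 (by omega))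
    have h3 : r ^ 2 % 2 = 1 := h2
    rcases Nat.mod_two_eq_zero_or_one r with h0 | h1
    · exfalso
      rw [Nat.pow_mod, h0] at h3
      norm_num at h3
    · exact h1
  obtain ⟨s, rfl⟩ : ∃ s, r = 2 * s + 1 := ⟨r / 2, by omega⟩
  rcases Nat.eq_zero_or_pos k with rfl | hk
  · left
    rw [pow_zero]
    exact Nat.modEq_one
  obtain ⟨k', rfl⟩ : ∃ k', k = k' + 1 := ⟨k - 1, by omega⟩
  have h1 : 2 ^ (k' + 1 + 1) ∣ 4 * (s * (s + 1)) := by
    have h2 : (2 * s + 1) ^ 2 = 4 * (s * (s + 1)) + 1 := by ring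
    rw [h2] at h
    have h3 : 4 * (s * (s + 1)) + 1 ≡ 0 + 1 [MOD 2 ^ (k' + 1 + 1)] := by rwa [zero_add]
    exact (Nat.modEq_zero_iff_dvd).mp (Nat.ModEq.add_right_cancel' 1 h3)
  have h2 : 2 ^ k' ∣ s * (s + 1) := by
    have h3 : 2 ^ (k' + 1 + 1) = 4 * 2 ^ k' := by rw [pow_succ, pow_succ]; ring
    rw [h3] at h1
    exact Nat.dvd_of_mul_dvd_mul_left (by norm_num) h1
  rcases Nat.even_or_odd s with hs | hs
  · left
    have hcop : Nat.Coprime (2 ^ k') (s + 1) :=
      Nat.Coprime.pow_left k' (Nat.coprime_two_left.mpr hs.add_one)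
    have h3 : 2 ^ k' ∣ s := hcop.dvd_of_dvd_mul_right h2
    have h4 : 2 ^ (k' + 1) ∣ 2 * s := by
      rw [pow_succ, mul_comm]; exact Nat.mul_dvd_mul_left 2 h3
    apply Nat.ModEq.symm
    rw [Nat.modEq_iff_dvd' (by omega)]
    simpa using h4
  · right
    have hcop : Nat.Coprime (2 ^ k') s := Nat.Coprime.pow_left k' (Nat.coprime_two_left.mpr hs)
    have h3 : 2 ^ k' ∣ s + 1 := hcop.dvd_of_dvd_mul_left h2
    have h4 : 2 * s + 1 + 1 = 2 * (s + 1) := by ring
    rw [h4, pow_succ, mul_comm]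
    exact Nat.mul_dvd_mul_left 2 h3

/-- The central quotient of a `2`-group of maximal class is dihedral. -/
theorem quotient_center_dihedral {X : Type u} [Group X] [Finite X] (n : ℕ) (hn : 3 ≤ n)
    (hX : Nat.card X = 2 ^ n) (hc : Group.nilpotencyClass X = n - 1) :
    Nonempty (X ⧸ Subgroup.center X ≃* DihedralGroup (2 ^ (n - 2))) := by
  haveI : Fact (Nat.Prime 2) := ⟨Nat.prime_two⟩
  have hPG : IsPGroup 2 X := IsPGroup.of_card hX
  obtain ⟨hZ, hQ, hcq⟩ := card_center_of_maximal_class (p := 2) n hn hX hc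
  have hncomm : ¬ ∀ a b : X, a * b = b * a := by
    intro hcomm
    have htop : Subgroup.center X = ⊤ := by
      rw [eq_top_iff]
      intro x _
      rw [Subgroup.mem_center_iff]
      intro g
      exact hcomm g x
    rw [htop, Subgroup.card_top, hX] at hZ
    have h3 : 2 ^ 3 ≤ 2 ^ n := Nat.pow_le_pow_right (by norm_num) hn
    omega
  obtain ⟨C, hCc, hCi⟩ := exists_cyclic_index_two_of_maximal_class n hn X hX hc
  have hCcomm : ∀ a ∈ C, ∀ b ∈ C, a * b = b * a := by
    intro a ha b hb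
    haveI := hCc
    have := (IsCyclic.commGroup (α := C)).mul_comm ⟨a, ha⟩ ⟨b, hb⟩
    exact congrArg Subtype.val this
  have hZC := center_le_of_index_two_abelian C hCi hCcomm hncomm
  haveI hCn : C.Normal := Subgroup.normal_of_index_eq_two hCi
  have hCcard : Nat.card C = 2 ^ (n - 1) := by
    have h := Subgroup.card_mul_index C
    rw [hCi, hX] at h
    have h2 : 2 ^ n = 2 ^ (n - 1) * 2 := by rw [← pow_succ]; congr 1; omega
    rw [h2] at h
    exact Nat.eq_of_mul_eq_mul_right (by norm_num) h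
  obtain ⟨g, hg⟩ := hCc.exists_generator
  obtain ⟨c, hc'⟩ : ∃ c : X, c = (g : X) := ⟨_, rfl⟩
  have hcC : c ∈ C := hc' ▸ g.2
  have hCz : ∀ y ∈ C, y ∈ Subgroup.zpowers c := by
    intro y hy
    obtain ⟨k, hk⟩ := Subgroup.mem_zpowers_iff.mp (hg ⟨y, hy⟩)
    refine Subgroup.mem_zpowers_iff.mpr ⟨k, ?_⟩
    have := congrArg Subtype.val hk
    rw [hc']
    simpa using this
  have hCeq : C = Subgroup.zpowers c :=
    le_antisymm hCz (by rw [Subgroup.zpowers_le]; exact hcC)
  have hordc : orderOf c = 2 ^ (n - 1) := by rw [← Nat.card_zpowers, ← hCeq, hCcard]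
  obtain ⟨x, hxC⟩ : ∃ x, x ∉ C := by
    by_contra h
    push Not at h
    have htop : C = ⊤ := by rw [eq_top_iff]; intro a _; exact h a
    rw [htop, Subgroup.index_top] at hCi
    omega
  have hcases : ∀ g : X, g ∈ C ∨ ∃ s ∈ C, g = s * x := by
    intro g
    by_cases hg : g ∈ C
    · exact Or.inl hg
    · right
      refine ⟨g * x⁻¹, ?_, by group⟩
      rw [Subgroup.mul_mem_iff_of_index_two hCi]
      constructor
      · intro h; exact absurd h hg
      · intro h; exact absurd (C.inv_mem_iff.mp h) hxC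
  have hx2C : x * x ∈ C := by
    have := C.pow_index_mem x
    rwa [hCi, pow_two] at this
  have hx2Z : x * x ∈ Subgroup.center X := by
    rw [Subgroup.mem_center_iff]
    intro g
    rcases hcases g with hg | ⟨s, hs, rfl⟩
    · exact hCcomm g hg _ hx2C
    · calc s * x * (x * x) = s * (x * x) * x := by group
        _ = (x * x) * s * x := by rw [hCcomm s hs _ hx2C]
        _ = x * x * (s * x) := by group
  have h1 : x * c * x⁻¹ ∈ Subgroup.zpowers c := hCz _ (hCn.conj_mem c hcC x)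
  rw [← mem_powers_iff_mem_zpowers] at h1
  obtain ⟨r, hr⟩ := (Submonoid.mem_powers_iff _ _).mp h1
  have h2 : x ^ 2 * c * (x ^ 2)⁻¹ = c := by
    have h0 := Subgroup.mem_center_iff.mp hx2Z c
    rw [pow_two, ← h0]; group
  have h3 := conj_pow_eq_pow_pow hr.symm 2
  rw [h2] at h3
  have h4 : r ^ 2 ≡ 1 [MOD 2 ^ (n - 2 + 1)] := by
    rw [show n - 2 + 1 = n - 1 by omega, ← hordc]
    apply pow_eq_pow_iff_modEq.mp
    rw [pow_one]; exact h3.symm
  -- the quotient
  obtain ⟨a, ha'⟩ : ∃ a : X ⧸ Subgroup.center X, a = (c : X ⧸ Subgroup.center X) := ⟨_, rfl⟩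
  obtain ⟨b, hb'⟩ : ∃ b : X ⧸ Subgroup.center X, b = (x : X ⧸ Subgroup.center X) := ⟨_, rfl⟩
  have horda : orderOf a = 2 ^ (n - 2) := by
    rw [← Nat.card_zpowers]
    have h5 : Subgroup.zpowers a = C.map (QuotientGroup.mk' (Subgroup.center X)) := by
      rw [hCeq, MonoidHom.map_zpowers, ha']; rfl
    rw [h5, ← Subgroup.relIndex_ker C (QuotientGroup.mk' (Subgroup.center X)),
      QuotientGroup.ker_mk']
    have h6 := Subgroup.relIndex_mul_relIndex ⊥ (Subgroup.center X) C bot_le hZC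
    rw [Subgroup.relIndex_bot_left, Subgroup.relIndex_bot_left, hZ, hCcard] at h6
    have h7 : 2 ^ (n - 1) = 2 * 2 ^ (n - 2) := by rw [← pow_succ']; congr 1; omega
    rw [h7] at h6
    exact Nat.eq_of_mul_eq_mul_left (by norm_num) h6
  have ha : a ^ (2 ^ (n - 2)) = 1 := by rw [← horda]; exact pow_orderOf_eq_one a
  have hb : b * b = 1 := by
    rw [hb', ← QuotientGroup.mk_mul, QuotientGroup.eq_one_iff]; exact hx2Z
  have hbn : b ∉ Subgroup.zpowers a := by
    intro h
    obtain ⟨k, hk⟩ := Subgroup.mem_zpowers_iff.mp h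
    have h6 : ((c ^ k : X) : X ⧸ Subgroup.center X) = (x : X ⧸ Subgroup.center X) := by
      rw [QuotientGroup.mk_zpow, ← ha', ← hb']; exact hk
    have h7 : (c ^ k)⁻¹ * x ∈ Subgroup.center X := QuotientGroup.eq.mp h6
    apply hxC
    have h8 : x = c ^ k * ((c ^ k)⁻¹ * x) := by group
    rw [h8]; exact C.mul_mem (C.zpow_mem hcC k) (hZC h7)
  have hconj : b * a * b⁻¹ = a ^ r := by
    rw [ha', hb', ← QuotientGroup.mk_inv, ← QuotientGroup.mk_mul, ← QuotientGroup.mk_mul,
      ← QuotientGroup.mk_pow, hr]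
  have hdvd : 2 ^ (n - 2) ∣ r + 1 := by
    rcases two_pow_dvd_of_sq_modEq_one h4 with h5 | h5
    · have har : a ^ r = a := by
        have h6 : a ^ r = a ^ 1 := by
          apply pow_eq_pow_iff_modEq.mpr; rw [horda]; exact h5
        rwa [pow_one] at h6
      have hab : b * a = a * b := by
        have h6 := hconj
        rw [har] at h6
        calc b * a = (b * a * b⁻¹) * b := by group
          _ = a * b := by rw [h6]
      have hform : ∀ u : X ⧸ Subgroup.center X, (∃ k : ℤ, u = a ^ k) ∨ (∃ k : ℤ, u = a ^ k * b) := by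
        intro u
        obtain ⟨y, rfl⟩ := QuotientGroup.mk_surjective u
        rcases hcases y with hy | ⟨s, hs, rfl⟩
        · left
          obtain ⟨k, hk⟩ := Subgroup.mem_zpowers_iff.mp (hCz y hy)
          exact ⟨k, by rw [← hk, ha', QuotientGroup.mk_zpow]⟩
        · right
          obtain ⟨k, hk⟩ := Subgroup.mem_zpowers_iff.mp (hCz s hs)
          exact ⟨k, by rw [← hk, ha', hb', QuotientGroup.mk_mul, QuotientGroup.mk_zpow]⟩
      have hcab : Commute a b := hab.symm
      have hQcomm : ∀ u v : X ⧸ Subgroup.center X, u * v = v * u := by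
        intro u v
        rcases hform u with ⟨k, rfl⟩ | ⟨k, rfl⟩ <;> rcases hform v with ⟨l, rfl⟩ | ⟨l, rfl⟩
        · exact ((Commute.refl a).zpow_zpow k l).eq
        · exact (Commute.mul_right ((Commute.refl a).zpow_zpow k l) (hcab.zpow_left k)).eq
        · exact (Commute.mul_left ((Commute.refl a).zpow_zpow k l) (hcab.symm.zpow_right l)).eq
        · exact (Commute.mul_left
            (Commute.mul_right ((Commute.refl a).zpow_zpow k l) (hcab.zpow_left k))
            (Commute.mul_right (hcab.symm.zpow_right l) (Commute.refl b))).eq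
      have hcl1 : Group.nilpotencyClass (X ⧸ Subgroup.center X) ≤ 1 := by
        haveI : Group.IsNilpotent (X ⧸ Subgroup.center X) := (IsPGroup.of_card hQ).isNilpotent
        rw [← Subgroup.lowerCentralSeries_eq_bot_iff_nilpotencyClass_le,
          Subgroup.top_lowerCentralSeries_one, commutator_def,
          Subgroup.commutator_eq_bot_iff_le_centralizer]
        intro u _
        rw [Subgroup.mem_centralizer_iff]
        intro v _
        exact hQcomm v u
      rw [hcq] at hcl1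
      have hn3 : n = 3 := by omega
      rw [hn3] at h5 ⊢
      have h6 : r % 2 = 1 := by
        have h7 : r % 2 ^ (3 - 2) = 1 % 2 ^ (3 - 2) := h5
        norm_num at h7
        exact h7
      have h8 : (2 : ℕ) ^ (3 - 2) = 2 := by norm_num
      rw [h8]
      exact Nat.dvd_of_mod_eq_zero (by omega)
    · exact h5
  have hab : b * a * b⁻¹ = a⁻¹ := by
    rw [hconj]
    have h5 : a ^ (r + 1) = 1 := by
      apply orderOf_dvd_iff_pow_eq_one.mp; rw [horda]; exact hdvd
    rw [pow_succ] at h5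
    exact eq_inv_of_mul_eq_one_left h5
  have hinj := Cfsg.Agent.Helper8.dihLift_injective (2 ^ (n - 2)) a ha b hb hab horda hbn
  have hbij : Function.Bijective (Cfsg.Agent.Helper8.dihLift (2 ^ (n - 2)) a ha b hb hab) := by
    rw [Nat.bijective_iff_injective_and_card]
    refine ⟨hinj, ?_⟩
    rw [DihedralGroup.nat_card, hQ, ← pow_succ']
    congr 1; omega
  exact ⟨(MulEquiv.ofBijective _ hbij).symm⟩

end Cfsg.Agent.Helper24
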