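import Mathlib

set_option autoImplicit false

namespace Cfsg.Agent.Helper24

/-- Two subgroups of `D` of order the full power of two dividing `|D|` are conjugate
by an element of `D`. -/
theorem nat_conj_in {G : Type*} [Group G] [Finite G] (D A B : Subgroup G)
    (hA : A ≤ D) (hB : B ≤ D)
    (hcA : Nat.card A = 2 ^ (Nat.card D).factorization 2)
    (hcB : Nat.card B = 2 ^ (Nat.card D).factorization 2) :
    ∃ h ∈ D, B = A.map (MulAut.conj h).toMonoidHom := by
  have : Fact (Nat.Prime 2) := ⟨Nat.prime_two⟩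
  have hc1 : Nat.card (A.subgroupOf D) = 2 ^ (Nat.card D).factorization 2 := by
    rw [← hcA]
    exact Nat.card_congr (Subgroup.subgroupOfEquivOfLe hA).toEquiv
  have hc2 : Nat.card (B.subgroupOf D) = 2 ^ (Nat.card D).factorization 2 := by
    rw [← hcB]
    exact Nat.card_congr (Subgroup.subgroupOfEquivOfLe hB).toEquiv
  obtain ⟨h, hh⟩ := MulAction.exists_smul_eq ↥D (Sylow.ofCard (A.subgroupOf D) hc1)
    (Sylow.ofCard (B.subgroupOf D) hc2)
  have hh' : (B.subgroupOf D) = (A.subgroupOf D).map (MulAut.conj h).toMonoidHom := by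
    have h5 := congrArg (fun S : Sylow 2 ↥D => (S : Subgroup ↥D)) hh
    simp only [Sylow.coe_subgroup_smul, Sylow.coe_ofCard] at h5
    rw [← h5]
    rfl
  refine ⟨h, h.2, ?_⟩
  have a1 := Subgroup.map_subgroupOf_eq_of_le hB
  have a2 := Subgroup.map_subgroupOf_eq_of_le hA
  have a3 : D.subtype.comp (MulAut.conj h).toMonoidHom
      = ((MulAut.conj (h : G)).toMonoidHom).comp D.subtype := by
    ext x; rfl
  rw [← a1, hh', Subgroup.map_map, a3, ← Subgroup.map_map, a2]

/-- A `3`-cycle in `S_n`, `n ≥ 7` (indeed `n ≥ 5`), commutes with an odd permutation. -/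
theorem nat_odd_comm (n : ℕ) (h7 : 7 ≤ n) (z : Equiv.Perm (Fin n)) (hz : z.cycleType = {3}) :
    ∃ w : Equiv.Perm (Fin n), Equiv.Perm.sign w = -1 ∧ w * z = z * w := by
  classical
  have hsupp : z.support.card = 3 := by
    rw [← Equiv.Perm.sum_cycleType, hz]
    simp
  have hcompl : 1 < (z.supportᶜ).card := by
    rw [Finset.card_compl, hsupp, Fintype.card_fin]
    omega
  obtain ⟨a, ha, b, hb, hab⟩ := Finset.one_lt_card.mp hcompl
  refine ⟨Equiv.swap a b, Equiv.Perm.sign_swap hab, ?_⟩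
  have hdis : Equiv.Perm.Disjoint (Equiv.swap a b) z := by
    rw [Equiv.Perm.disjoint_iff_disjoint_support, Equiv.Perm.support_swap hab]
    rw [Finset.disjoint_left]
    intro x hx hxz
    rw [Finset.mem_compl] at ha hb
    simp only [Finset.mem_insert, Finset.mem_singleton] at hx
    rcases hx with rfl | rfl
    · exact ha hxz
    · exact hb hxz
  exact hdis.commute.eq

/-- The even part of the centralizer of a `3`-cycle has half the order. -/
theorem nat_card_even_centralizer (n : ℕ) (h7 : 7 ≤ n) (z : Equiv.Perm (Fin n))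
    (hz : z.cycleType = {3}) :
    2 * Nat.card ↥(Subgroup.centralizer {z} ⊓ alternatingGroup (Fin n))
      = (n - 3).factorial * 3 := by
  classical
  obtain ⟨w, hw, hwz⟩ := nat_odd_comm n h7 z hz
  obtain ⟨C, hC⟩ : ∃ C : Subgroup (Equiv.Perm (Fin n)),
      C = Subgroup.centralizer {z} := ⟨_, rfl⟩
  have hcardC : Nat.card C = (n - 3).factorial * 3 := by
    rw [hC, Equiv.Perm.nat_card_centralizer, hz]
    simp
  rw [← hC, ← hcardC]
  have hwC : w ∈ C := by
    rw [hC, Subgroup.mem_centralizer_singleton_iff]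
    exact hwz
  obtain ⟨f, hf⟩ : ∃ f : ↥C →* ℤˣ, f = Equiv.Perm.sign.comp C.subtype := ⟨_, rfl⟩
  have hsurj : Function.Surjective f := by
    intro u
    rcases Int.units_eq_one_or u with rfl | rfl
    · exact ⟨1, map_one f⟩
    · refine ⟨⟨w, hwC⟩, ?_⟩
      rw [hf]
      exact hw
  have hker : f.ker = (alternatingGroup (Fin n)).subgroupOf C := by
    rw [hf]
    rfl
  have hidx : f.ker.index = 2 := by
    rw [Subgroup.index_ker, MonoidHom.range_eq_top.mpr hsurj, Subgroup.card_top,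
      Nat.card_eq_fintype_card, Fintype.card_units_int]
  have h1 := Subgroup.card_mul_index f.ker
  rw [hidx, hker] at h1
  have h2 : Nat.card ↥((alternatingGroup (Fin n)).subgroupOf C)
      = Nat.card ↥(C ⊓ alternatingGroup (Fin n)) := by
    rw [← Subgroup.inf_subgroupOf_left]
    exact Nat.card_congr (Subgroup.subgroupOfEquivOfLe inf_le_left).toEquiv
  rw [← h1, h2, mul_comm]

theorem alt3_conj (n : ℕ) (h7 : 7 ≤ n) (z₁ z₂ : Equiv.Perm (Fin n))
    (T₁ T₂ : Subgroup (Equiv.Perm (Fin n))) (hz₁ : z₁.cycleType = {3})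
    (hz₂ : z₂.cycleType = {3})
    (hT₁ : 2 * Nat.card T₁ = 2 ^ ((n - 3).factorial.factorization 2))
    (hT₂ : 2 * Nat.card T₂ = 2 ^ ((n - 3).factorial.factorization 2))
    (hA₁ : T₁ ≤ alternatingGroup (Fin n)) (hA₂ : T₂ ≤ alternatingGroup (Fin n))
    (h₁ : ∀ t ∈ T₁, t * z₁ = z₁ * t) (h₂ : ∀ t ∈ T₂, t * z₂ = z₂ * t) :
    ∃ g : Equiv.Perm (Fin n), Equiv.Perm.sign g = 1 ∧ (T₂ ⊔ Subgroup.zpowers z₂)
      = (T₁ ⊔ Subgroup.zpowers z₁).map (MulAut.conj g).toMonoidHom := by
  classical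
  -- an even conjugator
  obtain ⟨s, hsgn, hs⟩ : ∃ s : Equiv.Perm (Fin n), Equiv.Perm.sign s = 1 ∧
      s * z₁ * s⁻¹ = z₂ := by
    obtain ⟨s₀, hs₀⟩ := isConj_iff.mp
      (Equiv.Perm.isConj_iff_cycleType_eq.mpr (hz₁.trans hz₂.symm))
    rcases Int.units_eq_one_or (Equiv.Perm.sign s₀) with h | h
    · exact ⟨s₀, h, hs₀⟩
    · obtain ⟨w, hw, hwz⟩ := nat_odd_comm n h7 z₂ hz₂
      refine ⟨w * s₀, ?_, ?_⟩
      · rw [map_mul, hw, h]
        simp
      · calc w * s₀ * z₁ * (w * s₀)⁻¹ = w * (s₀ * z₁ * s₀⁻¹) * w⁻¹ := by group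
          _ = w * z₂ * w⁻¹ := by rw [hs₀]
          _ = z₂ * w * w⁻¹ := by rw [hwz]
          _ = z₂ := by group
  obtain ⟨D, hD⟩ : ∃ D : Subgroup (Equiv.Perm (Fin n)),
      D = Subgroup.centralizer {z₂} ⊓ alternatingGroup (Fin n) := ⟨_, rfl⟩
  have hcardD : 2 * Nat.card D = (n - 3).factorial * 3 := by
    rw [hD]
    exact nat_card_even_centralizer n h7 z₂ hz₂
  have hDpos : Nat.card D ≠ 0 := Nat.card_pos.ne'
  -- the 2-part of |D|
  have hfac : (Nat.card D).factorization 2 + 1 = (n - 3).factorial.factorization 2 := by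
    have h3 : (3 : ℕ).factorization 2 = 0 :=
      Nat.factorization_eq_zero_of_not_dvd (by norm_num)
    have h4 : (2 * Nat.card D).factorization 2 = ((n - 3).factorial * 3).factorization 2 := by
      rw [hcardD]
    rw [Nat.factorization_mul (by norm_num) hDpos,
      Nat.factorization_mul (Nat.factorial_ne_zero _) (by norm_num)] at h4
    simp only [Finsupp.add_apply, h3, add_zero] at h4
    rw [Nat.Prime.factorization_self Nat.prime_two] at h4
    omega
  have hcard : ∀ T : Subgroup (Equiv.Perm (Fin n)),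
      2 * Nat.card T = 2 ^ ((n - 3).factorial.factorization 2) →
      Nat.card T = 2 ^ (Nat.card D).factorization 2 := by
    intro T hT
    rw [← hfac, pow_succ] at hT
    omega
  obtain ⟨T₁', hT₁'⟩ : ∃ T₁' : Subgroup (Equiv.Perm (Fin n)),
      T₁' = T₁.map (MulAut.conj s).toMonoidHom := ⟨_, rfl⟩
  have hT₁'D : T₁' ≤ D := by
    rw [hT₁', hD]
    intro x hx
    obtain ⟨t, ht, rfl⟩ := Subgroup.mem_map.mp hx
    refine Subgroup.mem_inf.mpr ⟨?_, ?_⟩
    · rw [Subgroup.mem_centralizer_singleton_iff]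
      show s * t * s⁻¹ * z₂ = z₂ * (s * t * s⁻¹)
      rw [← hs]
      have h := h₁ t ht
      calc s * t * s⁻¹ * (s * z₁ * s⁻¹) = s * (t * z₁) * s⁻¹ := by group
        _ = s * (z₁ * t) * s⁻¹ := by rw [h]
        _ = s * z₁ * s⁻¹ * (s * t * s⁻¹) := by group
    · rw [Equiv.Perm.mem_alternatingGroup]
      show Equiv.Perm.sign (s * t * s⁻¹) = 1
      have ht1 : Equiv.Perm.sign t = 1 := Equiv.Perm.mem_alternatingGroup.mp (hA₁ ht)
      rw [map_mul, map_mul, map_inv, ht1, hsgn]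
      simp
  have hT₂D : T₂ ≤ D := by
    rw [hD]
    intro t ht
    refine Subgroup.mem_inf.mpr ⟨?_, hA₂ ht⟩
    rw [Subgroup.mem_centralizer_singleton_iff]
    exact h₂ t ht
  have hcardT₁' : Nat.card T₁' = 2 ^ (Nat.card D).factorization 2 := by
    rw [← hcard T₁ hT₁, hT₁']
    exact Subgroup.card_map_of_injective (MulAut.conj s).injective
  obtain ⟨h, hhD, hh⟩ := nat_conj_in D T₁' T₂ hT₁'D hT₂D hcardT₁' (hcard T₂ hT₂)
  have hhC : h * z₂ = z₂ * h := by
    rw [hD] at hhD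
    exact Subgroup.mem_centralizer_singleton_iff.mp (Subgroup.mem_inf.mp hhD).1
  have hhA : Equiv.Perm.sign h = 1 := by
    rw [hD] at hhD
    exact Equiv.Perm.mem_alternatingGroup.mp (Subgroup.mem_inf.mp hhD).2
  refine ⟨h * s, ?_, ?_⟩
  · rw [map_mul, hhA, hsgn, one_mul]
  have e1 : T₂ = T₁.map (MulAut.conj (h * s)).toMonoidHom := by
    rw [hh, hT₁', Subgroup.map_map]
    congr 1
  have e2 : Subgroup.zpowers z₂
      = (Subgroup.zpowers z₁).map (MulAut.conj (h * s)).toMonoidHom := by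
    rw [MonoidHom.map_zpowers]
    congr 1
    show z₂ = h * s * z₁ * (h * s)⁻¹
    calc z₂ = z₂ * h * h⁻¹ := by group
      _ = h * z₂ * h⁻¹ := by rw [hhC]
      _ = h * (s * z₁ * s⁻¹) * h⁻¹ := by rw [hs]
      _ = h * s * z₁ * (h * s)⁻¹ := by group
  rw [Subgroup.map_sup, ← e1, ← e2]

end Cfsg.Agent.Helper24
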