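import Mathlib
import Cfsg.Agent.Helper24.ItoPSolv
import Cfsg.Agent.Helper24.PGroupBasic
import Cfsg.Agent.Helper24.ExtraCent
import Cfsg.Agent.Helper24.IndexP
import Cfsg.Agent.Helper24.NormalCenter
import Cfsg.Agent.Helper24.ExtraChar
import Cfsg.Agent.Lead.PGroup

/-!
`p`-groups with a subgroup of index `p`; abelian subgroups of index `p` in groups of order `p ^ 4`;
degree bound by the index of an abelian subgroup.
-/

set_option autoImplicit false

namespace Cfsg.Agent.Helper24

open Cfsg
open scoped ComplexConjugate

/-- A subgroup of index `p` of a `p`-group is normal. -/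
theorem normal_of_index_prime_of_isPGroup {S : Type*} [Group S] [Finite S] {p : ℕ}
    [hp : Fact p.Prime] (hS : IsPGroup p S) (Q : Subgroup S) (hQi : Q.index = p) : Q.Normal := by
  apply Subgroup.normal_of_index_eq_minFac_card
  obtain ⟨k, hk⟩ := IsPGroup.iff_card.mp hS
  have hk0 : k ≠ 0 := by
    rintro rfl
    rw [pow_zero] at hk
    have h1 := Subgroup.card_mul_index Q
    rw [hk, hQi] at h1
    have h2 : p ∣ 1 := Dvd.intro_left _ h1
    exact hp.out.one_lt.ne' (Nat.dvd_one.mp h2)
  rw [hQi, hk, Nat.pow_minFac hk0, hp.out.minFac_eq]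

/-- A normal subgroup of prime index contains the derived subgroup. -/
theorem commutator_le_of_index_prime {S : Type*} [Group S] {p : ℕ}
    [hp : Fact p.Prime] (Q : Subgroup S) [Q.Normal] (hQi : Q.index = p) : commutator S ≤ Q := by
  rw [← Subgroup.Normal.quotient_commutative_iff_commutator_le]
  have hc : Nat.card (S ⧸ Q) = p := by rw [← Subgroup.index_eq_card]; exact hQi
  haveI := isCyclic_of_prime_card hc
  exact IsCyclic.isMulCommutative

/-- A normal subgroup of prime index `p` contains all `p`-th powers. -/
theorem pow_mem_of_index_prime {S : Type*} [Group S] {p : ℕ}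
    (Q : Subgroup S) [Q.Normal] (hQi : Q.index = p) (x : S) : x ^ p ∈ Q := by
  rw [← QuotientGroup.eq_one_iff, QuotientGroup.mk_pow]
  have hc : Nat.card (S ⧸ Q) = p := by rw [← Subgroup.index_eq_card]; exact hQi
  have h1 := pow_card_eq_one' (G := S ⧸ Q) (x := (x : S ⧸ Q))
  rwa [hc] at h1

/-- In a `p`-group, a normal subgroup of order `p` is central. -/
theorem le_center_of_normal_of_card_prime {S : Type*} [Group S] [Finite S] {p : ℕ}
    [hp : Fact p.Prime] (hS : IsPGroup p S) (Z : Subgroup S) [Z.Normal] (hZ : Nat.card Z = p) :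
    Z ≤ Subgroup.center S := by
  haveI : Group.IsNilpotent S := hS.isNilpotent
  have hZne : Z ≠ ⊥ := by
    intro h
    rw [h, Subgroup.card_bot] at hZ
    exact hp.out.one_lt.ne hZ
  obtain ⟨x, hxZ, hx1, hxc⟩ := exists_mem_center_of_normal Z hZne
  have htop : Subgroup.zpowers (⟨x, hxZ⟩ : Z) = ⊤ :=
    zpowers_eq_top_of_prime_card hZ (by intro h; exact hx1 (congrArg Subtype.val h))
  intro z hz
  have h1 : (⟨z, hz⟩ : Z) ∈ Subgroup.zpowers (⟨x, hxZ⟩ : Z) := htop ▸ Subgroup.mem_top _
  obtain ⟨k, hk⟩ := Subgroup.mem_zpowers_iff.mp h1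
  have h2 : z = x ^ k := by
    have h3 := congrArg Subtype.val hk
    simpa using h3.symm
  rw [h2]
  exact Subgroup.zpow_mem _ hxc k

/-- The centre of a normal subgroup `Q` of a `p`-group, when of order `p`, is central. -/
theorem map_center_le_center {S : Type*} [Group S] [Finite S] {p : ℕ}
    [hp : Fact p.Prime] (hS : IsPGroup p S) (Q : Subgroup S) [hQn : Q.Normal]
    (hZ : Nat.card (Subgroup.center Q) = p) :
    (Subgroup.center Q).map Q.subtype ≤ Subgroup.center S := by
  haveI : ((Subgroup.center Q).map Q.subtype).Normal :=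
    ConjAct.normal_of_characteristic_of_normal
  apply le_center_of_normal_of_card_prime hS
  rw [Subgroup.card_subtype]
  exact hZ

/-- In a group of order `p ^ 4`, the centralizer of a non-central element is abelian when it
has order `p ^ 3`. -/
theorem centralizer_comm_of_card_cube {P : Type*} [Group P] [Finite P] (p : ℕ)
    [Fact p.Prime] (hP : Nat.card P = p ^ 4) (x : P) (hx : x ∉ Subgroup.center P)
    (hA3 : Nat.card (Subgroup.centralizer ({x} : Set P)) = p ^ 3) :
    ∀ a ∈ Subgroup.centralizer ({x} : Set P), ∀ b ∈ Subgroup.centralizer ({x} : Set P),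
      a * b = b * a := by
  classical
  have hp : p.Prime := Fact.out
  have hPg : IsPGroup p P := IsPGroup.of_card hP
  have hnt : Nontrivial P := by
    rw [← Finite.one_lt_card_iff_nontrivial, hP]
    exact Nat.one_lt_pow (by norm_num) hp.one_lt
  obtain ⟨A, hAdef⟩ : ∃ A : Subgroup P, A = Subgroup.centralizer ({x} : Set P) := ⟨_, rfl⟩
  rw [← hAdef] at hA3 ⊢
  have hZA : Subgroup.center P ≤ A := by
    rw [hAdef]; exact Subgroup.center_le_centralizer _
  have hAx : ∀ a ∈ A, a * x = x * a := by
    intro a ha
    rw [hAdef, Subgroup.mem_centralizer_iff] at ha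
    exact (ha x rfl).symm
  have hxA : x ∈ A := by
    rw [hAdef, Subgroup.mem_centralizer_iff]
    intro h hh
    rw [Set.mem_singleton_iff.mp hh]
  have hZ'le : (Subgroup.center P).subgroupOf A ≤ Subgroup.center A := by
    intro z hz
    rw [Subgroup.mem_subgroupOf, Subgroup.mem_center_iff] at hz
    rw [Subgroup.mem_center_iff]
    intro a
    exact Subtype.ext (hz a)
  have hxZA : (⟨x, hxA⟩ : A) ∈ Subgroup.center A := by
    rw [Subgroup.mem_center_iff]
    intro a
    exact Subtype.ext (hAx a a.2)
  have hcardZ' : Nat.card ((Subgroup.center P).subgroupOf A) = Nat.card (Subgroup.center P) :=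
    Nat.card_congr (Subgroup.subgroupOfEquivOfLe hZA).toEquiv
  have hlt : Nat.card (Subgroup.center P) < Nat.card (Subgroup.center A) := by
    by_contra hcon
    push Not at hcon
    rw [← hcardZ'] at hcon
    have heq := Subgroup.eq_of_le_of_card_ge hZ'le hcon
    rw [← heq, Subgroup.mem_subgroupOf] at hxZA
    exact hx hxZA
  have hZnt : Nontrivial (Subgroup.center P) := hPg.center_nontrivial
  have hZ1 : 1 < Nat.card (Subgroup.center P) := Finite.one_lt_card_iff_nontrivial.mpr hZnt
  obtain ⟨j, hj, hj'⟩ := (Nat.dvd_prime_pow hp).mp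
    (hA3 ▸ Subgroup.card_subgroup_dvd_card (Subgroup.center A))
  have hj2 : 2 ≤ j := by
    by_contra hcon
    push Not at hcon
    have h1 : p ^ j ≤ p ^ 1 := Nat.pow_le_pow_right hp.pos (by omega)
    have h2 : p ∣ Nat.card (Subgroup.center P) := by
      obtain ⟨i, -, hi⟩ := (Nat.dvd_prime_pow hp).mp
        (hP ▸ Subgroup.card_subgroup_dvd_card (Subgroup.center P))
      rw [hi] at hZ1 ⊢
      have : i ≠ 0 := by
        rintro rfl
        simp at hZ1
      exact dvd_pow_self p this
    have h3 := Nat.le_of_dvd (by omega) h2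
    rw [hj'] at hlt
    rw [pow_one] at h1
    omega
  have hcomm' : ∀ a b : A, a * b = b * a := by
    have hq := Subgroup.card_eq_card_quotient_mul_card_subgroup (Subgroup.center A)
    rw [hA3, hj'] at hq
    have hj3 : j = 2 ∨ j = 3 := by omega
    rcases hj3 with rfl | rfl
    · have hq' : Nat.card (A ⧸ Subgroup.center A) = p := by
        have h2 : 0 < p ^ 2 := pow_pos hp.pos 2
        exact (Nat.eq_of_mul_eq_mul_right h2 (by rw [← hq]; ring)).symm
      have hcyc : IsCyclic (A ⧸ Subgroup.center A) := isCyclic_of_prime_card hq'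
      exact (MonoidHom.isMulCommutative_of_isCyclic_of_ker_le_center
        (QuotientGroup.mk' (Subgroup.center A)) (by rw [QuotientGroup.ker_mk'])).is_comm.comm
    · have htop : Subgroup.center A = ⊤ := by
        rw [← Subgroup.card_eq_iff_eq_top, hj', hA3]
      intro a b
      have ha : a ∈ Subgroup.center A := htop ▸ Subgroup.mem_top a
      exact (Subgroup.mem_center_iff.mp ha b).symm
  intro a ha b hb
  exact congrArg Subtype.val (hcomm' ⟨a, ha⟩ ⟨b, hb⟩)

/-- Every group of order `p ^ 4` has an abelian subgroup of index `p`. -/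
theorem exists_abelian_index_p_of_card_p4 {P : Type*} [Group P] [Finite P] (p : ℕ)
    [Fact p.Prime] (hP : Nat.card P = p ^ 4) :
    ∃ A : Subgroup P, IsMulCommutative A ∧ A.index = p := by
  classical
  have hp : p.Prime := Fact.out
  have hPg : IsPGroup p P := IsPGroup.of_card hP
  have hidx3 : ∀ K : Subgroup P, Nat.card K = p ^ 3 → K.index = p := by
    intro K hK
    have h1 := Subgroup.card_mul_index K
    rw [hK, hP] at h1
    exact Nat.eq_of_mul_eq_mul_left (pow_pos hp.pos 3) (by rw [h1]; ring)
  by_cases hab : ∀ a b : P, a * b = b * a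
  · obtain ⟨K, hK⟩ := Sylow.exists_subgroup_card_pow_prime p
      (show p ^ 3 ∣ Nat.card P by rw [hP]; exact pow_dvd_pow p (by norm_num))
    exact ⟨K, ⟨⟨fun a b => Subtype.ext (hab a b)⟩⟩, hidx3 K hK⟩
  · have hnt : Nontrivial P := by
      rw [← Finite.one_lt_card_iff_nontrivial, hP]
      exact Nat.one_lt_pow (by norm_num) hp.one_lt
    have hZnt : Nontrivial (Subgroup.center P) := hPg.center_nontrivial
    have hZ1 : 1 < Nat.card (Subgroup.center P) := Finite.one_lt_card_iff_nontrivial.mpr hZnt
    obtain ⟨i, hi4, hi⟩ := (Nat.dvd_prime_pow hp).mp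
      (hP ▸ Subgroup.card_subgroup_dvd_card (Subgroup.center P))
    have hi0 : i ≠ 0 := by
      rintro rfl
      rw [hi] at hZ1
      simp at hZ1
    obtain ⟨x₀, hx₀⟩ : ∃ x : P, x ∉ Subgroup.center P := by
      by_contra hcon
      push Not at hcon
      apply hab
      intro a b
      exact (Subgroup.mem_center_iff.mp (hcon b) a)
    -- a non-central element with large centralizer
    have hex : ∃ x : P, x ∉ Subgroup.center P ∧
        p ^ 3 ≤ Nat.card (Subgroup.centralizer ({x} : Set P)) := by
      by_cases hi2 : 2 ≤ i
      · refine ⟨x₀, hx₀, ?_⟩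
        have hle : Subgroup.center P ≤ Subgroup.centralizer ({x₀} : Set P) :=
          Subgroup.center_le_centralizer _
        have hlt : Nat.card (Subgroup.center P) <
            Nat.card (Subgroup.centralizer ({x₀} : Set P)) := by
          by_contra hcon
          push Not at hcon
          have heq := Subgroup.eq_of_le_of_card_ge hle hcon
          apply hx₀
          rw [heq, Subgroup.mem_centralizer_iff]
          intro h hh
          rw [Set.mem_singleton_iff.mp hh]
        obtain ⟨j, hj4, hj⟩ := (Nat.dvd_prime_pow hp).mp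
          (hP ▸ Subgroup.card_subgroup_dvd_card (Subgroup.centralizer ({x₀} : Set P)))
        rw [hi, hj] at hlt
        have hij : i < j := (Nat.pow_lt_pow_iff_right hp.one_lt).mp hlt
        rw [hj]
        exact Nat.pow_le_pow_right hp.pos (by omega)
      · have hi1 : i = 1 := by omega
        rw [hi1, pow_one] at hi
        -- the quotient by the centre has non-trivial centre
        have hqcard : Nat.card (P ⧸ Subgroup.center P) = p ^ 3 := by
          have h1 := Subgroup.card_eq_card_quotient_mul_card_subgroup (Subgroup.center P)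
          rw [hP, hi] at h1
          exact Nat.eq_of_mul_eq_mul_right hp.pos (by rw [← h1]; ring)
        have hqp : IsPGroup p (P ⧸ Subgroup.center P) := IsPGroup.of_card hqcard
        have hqnt : Nontrivial (P ⧸ Subgroup.center P) := by
          rw [← Finite.one_lt_card_iff_nontrivial, hqcard]
          exact Nat.one_lt_pow (by norm_num) hp.one_lt
        have hqZnt : Nontrivial (Subgroup.center (P ⧸ Subgroup.center P)) :=
          hqp.center_nontrivial
        obtain ⟨⟨ybar, hybar⟩, hy1⟩ := exists_ne (1 : Subgroup.center (P ⧸ Subgroup.center P))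
        obtain ⟨y, rfl⟩ := QuotientGroup.mk_surjective ybar
        have hyZ : y ∉ Subgroup.center P := by
          intro hy
          apply hy1
          apply Subtype.ext
          exact (QuotientGroup.eq_one_iff y).mpr hy
        have hcomm : ∀ g : P, g * y * g⁻¹ * y⁻¹ ∈ Subgroup.center P := by
          intro g
          rw [← QuotientGroup.eq_one_iff]
          have h1 := Subgroup.mem_center_iff.mp hybar (g : P ⧸ Subgroup.center P)
          have h2 : ((g * y * g⁻¹ * y⁻¹ : P) : P ⧸ Subgroup.center P) =
              (g : P ⧸ Subgroup.center P) * (y : P ⧸ Subgroup.center P) *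
              (g : P ⧸ Subgroup.center P)⁻¹ * (y : P ⧸ Subgroup.center P)⁻¹ := rfl
          rw [h2, h1]
          group
        refine ⟨y, hyZ, ?_⟩
        have hidx : (Subgroup.centralizer ({y} : Set P)).index ≤
            Nat.card (Subgroup.center P) := by
          apply index_le_card_of_fiber (Subgroup.centralizer ({y} : Set P))
            (fun g => (⟨g * y * g⁻¹ * y⁻¹, hcomm g⟩ : Subgroup.center P))
          intro a b hab'
          have h1 : a * y * a⁻¹ * y⁻¹ = b * y * b⁻¹ * y⁻¹ := congrArg Subtype.val hab'
          have h2 : a * y * a⁻¹ = b * y * b⁻¹ := mul_right_cancel h1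
          rw [Subgroup.mem_centralizer_iff]
          intro h hh
          rw [Set.mem_singleton_iff.mp hh]
          calc y * (a⁻¹ * b) = a⁻¹ * (a * y * a⁻¹) * b := by group
            _ = a⁻¹ * (b * y * b⁻¹) * b := by rw [h2]
            _ = a⁻¹ * b * y := by group
        rw [hi] at hidx
        have h3 := Subgroup.card_mul_index (Subgroup.centralizer ({y} : Set P))
        rw [hP] at h3
        by_contra hcon
        push Not at hcon
        have h4 : Nat.card (Subgroup.centralizer ({y} : Set P)) *
            (Subgroup.centralizer ({y} : Set P)).index < p ^ 3 * p := by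
          calc Nat.card (Subgroup.centralizer ({y} : Set P)) *
                (Subgroup.centralizer ({y} : Set P)).index
              ≤ Nat.card (Subgroup.centralizer ({y} : Set P)) * p :=
                Nat.mul_le_mul_left _ hidx
            _ < p ^ 3 * p := Nat.mul_lt_mul_of_pos_right hcon hp.pos
        rw [h3] at h4
        have h5 : p ^ 3 * p = p ^ 4 := by ring
        omega
    obtain ⟨x, hx, hge⟩ := hex
    have hA3 : Nat.card (Subgroup.centralizer ({x} : Set P)) = p ^ 3 := by
      obtain ⟨j, hj4, hj⟩ := (Nat.dvd_prime_pow hp).mp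
        (hP ▸ Subgroup.card_subgroup_dvd_card (Subgroup.centralizer ({x} : Set P)))
      have hj3 : 3 ≤ j := by
        rw [hj] at hge
        exact (Nat.pow_le_pow_iff_right hp.one_lt).mp hge
      have hj4' : j ≠ 4 := by
        rintro rfl
        have htop : Subgroup.centralizer ({x} : Set P) = ⊤ := by
          rw [← Subgroup.card_eq_iff_eq_top, hj, hP]
        apply hx
        rw [Subgroup.mem_center_iff]
        intro g
        have hg : g ∈ Subgroup.centralizer ({x} : Set P) := htop ▸ Subgroup.mem_top g
        exact (Subgroup.mem_centralizer_iff.mp hg x rfl).symm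
      have : j = 3 := by omega
      rw [hj, this]
    have hcomm := centralizer_comm_of_card_cube p hP x hx hA3
    exact ⟨Subgroup.centralizer ({x} : Set P),
      ⟨⟨fun a b => Subtype.ext (hcomm a a.2 b b.2)⟩⟩, hidx3 _ hA3⟩

/-- The degree of an irreducible character is at most the index of an abelian subgroup. -/
theorem charDegree_le_index_of_comm {G : Type*} [Group G] [Fintype G] (B : Subgroup G)
    (hB : ∀ a b : B, a * b = b * a) {χ : G → ℂ} (hχ : IsIrrCharacter G χ) :
    charDegree χ ≤ B.index := by
  classical
  have := Fintype.ofFinite B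
  obtain ⟨θ, hθ, hcon⟩ := exists_constituent_restrict B hχ
  have hθ1 := Helper10.irr_one_of_comm hB hθ
  have hind := Helper2.isCharacter_indFun B (isCharacter_of_irr hθ)
  have hne : classInner (indFun B θ) χ ≠ 0 := by
    rw [Helper2.frobenius_reciprocity B θ χ (Helper2.IsIrrCharacter.isClassFunction hχ)]
    intro h0
    apply hcon
    rw [← Helper2.classInner_conj_symm, h0, map_zero]
  have hle := Helper2.charDegree_le_of_constituent hind hχ hne
  have hdeg : charDegree (indFun B θ) = B.index := by
    have h1 := charDegree_spec hind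
    rw [Helper6.indFun_one, hθ1, mul_one] at h1
    have h2 := Subgroup.card_mul_index B
    have hB0 : (Nat.card B : ℂ) ≠ 0 := by exact_mod_cast Nat.card_pos.ne'
    have h3 : ((B.index : ℕ) : ℂ) = (charDegree (indFun B θ) : ℂ) := by
      rw [← h1, ← h2]
      push_cast
      field_simp
    exact_mod_cast h3.symm
  rw [hdeg] at hle
  exact hle

end Cfsg.Agent.Helper24
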