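import Mathlib
import Cfsg.Agent.Helper25.FSIndicator
import Cfsg.Agent.Helper24.OneNonlinear
import Cfsg.Agent.Lead.PGroup

set_option autoImplicit false

namespace Cfsg.Agent.Helper24

open Cfsg

/-- If a group acts on a finite type, `f` is invariant and `m` divides
`|orbit x| * f x` for every `x`, then `m` divides the sum of `f`. -/
theorem dvd_sum_of_orbit {Λ X : Type*} [Group Λ] [Fintype X] [MulAction Λ X]
    (f : X → ℤ) (m : ℤ) (hinv : ∀ (l : Λ) (x : X), f (l • x) = f x)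
    (hdvd : ∀ x : X, m ∣ (Nat.card (MulAction.orbit Λ x) : ℤ) * f x) :
    m ∣ ∑ x, f x := by
  classical
  rw [Finset.sum_partition (MulAction.orbitRel Λ X)]
  apply Finset.dvd_sum
  intro xbar _
  induction xbar using Quotient.inductionOn with
  | h x =>
    have h3 : ∀ (s : Finset X), (∀ y, y ∈ s ↔ y ∈ MulAction.orbit Λ x) →
        s.card = Nat.card (MulAction.orbit Λ x) := by
      intro s hs
      rw [← Nat.card_eq_finsetCard]
      exact Nat.card_congr (Equiv.subtypeEquivRight hs)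
    have hmem : ∀ y : X, (Quotient.mk (MulAction.orbitRel Λ X) y
        = Quotient.mk (MulAction.orbitRel Λ X) x) ↔ y ∈ MulAction.orbit Λ x := by
      intro y
      rw [Quotient.eq]
      exact MulAction.orbitRel_apply
    rw [Finset.sum_congr rfl (g := fun _ => f x) (by
      intro y hy
      rw [Finset.mem_filter] at hy
      obtain ⟨l, rfl⟩ := (hmem y).mp hy.2
      exact hinv l x)]
    rw [Finset.sum_const, nsmul_eq_mul,
      h3 _ (fun y => by rw [Finset.mem_filter]; simpa using hmem y)]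
    exact hdvd x

/-- The `ℂˣ`-valued homomorphism attached to a sign homomorphism. -/
noncomputable def signHom {G : Type*} [Group G] (β : G →* ℤˣ) : G →* ℂˣ :=
  (Units.map (Int.castRingHom ℂ).toMonoidHom).comp β

theorem signHom_apply {G : Type*} [Group G] (β : G →* ℤˣ) (g : G) :
    ((signHom β g : ℂˣ) : ℂ) = (((β g : ℤˣ) : ℤ) : ℂ) := rfl

/-- Sign homomorphisms act on the irreducible characters by multiplication. -/
noncomputable def signAction (G : Type*) [Group G] [Fintype G] :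
    MulAction (G →* ℤˣ) (IrrCharacter G) where
  smul β χ := ⟨fun g => ((signHom β g : ℂˣ) : ℂ) * (χ : G → ℂ) g,
    isIrrCharacter_hom_mul (signHom β) χ.2⟩
  one_smul χ := by
    apply Subtype.ext
    funext g
    show ((signHom 1 g : ℂˣ) : ℂ) * (χ : G → ℂ) g = (χ : G → ℂ) g
    rw [signHom_apply]
    simp
  mul_smul β γ χ := by
    apply Subtype.ext
    funext g
    show ((signHom (β * γ) g : ℂˣ) : ℂ) * (χ : G → ℂ) g
      = ((signHom β g : ℂˣ) : ℂ) * (((signHom γ g : ℂˣ) : ℂ) * (χ : G → ℂ) g)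
    rw [signHom_apply, signHom_apply, signHom_apply, MonoidHom.mul_apply]
    push_cast
    ring

attribute [local instance] signAction

theorem signAction_apply {G : Type*} [Group G] [Fintype G] (β : G →* ℤˣ) (χ : IrrCharacter G)
    (g : G) : ((β • χ : IrrCharacter G) : G → ℂ) g = (((β g : ℤˣ) : ℤ) : ℂ) * (χ : G → ℂ) g :=
  rfl

/-- A nontrivial sign homomorphism sums to zero. -/
theorem sum_sign_eq_zero {G : Type*} [Group G] [Fintype G] (β : G →* ℤˣ) (hβ : β ≠ 1) :
    ∑ g : G, ((β g : ℤˣ) : ℤ) = 0 := by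
  obtain ⟨g₀, hg₀⟩ : ∃ g₀, β g₀ ≠ 1 := by
    by_contra h
    push_neg at h
    exact hβ (MonoidHom.ext fun g => by simpa using h g)
  have h1 : β g₀ = -1 := (Int.units_eq_one_or _).resolve_left hg₀
  have h2 : ∑ g : G, ((β g : ℤˣ) : ℤ) = ∑ g : G, ((β (g₀ * g) : ℤˣ) : ℤ) :=
    (Fintype.sum_equiv (Equiv.mulLeft g₀) (fun g => ((β (g₀ * g) : ℤˣ) : ℤ))
      (fun g => ((β g : ℤˣ) : ℤ)) (fun g => rfl)).symm
  have h3 : ∑ g : G, ((β (g₀ * g) : ℤˣ) : ℤ) = -∑ g : G, ((β g : ℤˣ) : ℤ) := by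
    rw [← Finset.sum_neg_distrib]
    refine Finset.sum_congr rfl fun g _ => ?_
    rw [map_mul, h1]
    simp
  linarith

/-- For a subgroup `S` of sign homomorphisms, `|S| * #{g | ∀ β ∈ S, β g = 1} = |G|`. -/
theorem card_mul_card_common_ker {G : Type*} [Group G] [Fintype G]
    (S : Subgroup (G →* ℤˣ)) :
    Nat.card S * Nat.card {g : G // ∀ β ∈ S, β g = 1} = Nat.card G := by
  classical
  have hfin : Finite (G →* ℤˣ) :=
    Finite.of_injective (fun f => (f : G → ℤˣ)) DFunLike.coe_injective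
  have := Fintype.ofFinite S
  have h1 : ∀ g : G, ∑ β : S, (((β : G →* ℤˣ) g : ℤˣ) : ℤ)
      = if ∀ β ∈ S, β g = 1 then (Nat.card S : ℤ) else 0 := by
    intro g
    split_ifs with h
    · rw [Finset.sum_congr rfl (g := fun _ => (1 : ℤ)) (fun β _ => by rw [h β.1 β.2]; rfl)]
      simp [Nat.card_eq_fintype_card]
    · push_neg at h
      obtain ⟨β₀, hβ₀S, hβ₀⟩ := h
      have hm1 : β₀ g = -1 := (Int.units_eq_one_or _).resolve_left hβ₀
      have h2 : ∑ β : S, (((β : G →* ℤˣ) g : ℤˣ) : ℤ)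
          = ∑ β : S, ((((⟨β₀, hβ₀S⟩ * β : S) : G →* ℤˣ) g : ℤˣ) : ℤ) :=
        (Fintype.sum_equiv (Equiv.mulLeft (⟨β₀, hβ₀S⟩ : S))
          (fun β : S => ((((⟨β₀, hβ₀S⟩ * β : S) : G →* ℤˣ) g : ℤˣ) : ℤ))
          (fun β : S => (((β : G →* ℤˣ) g : ℤˣ) : ℤ)) (fun β => rfl)).symm
      have h3 : ∑ β : S, ((((⟨β₀, hβ₀S⟩ * β : S) : G →* ℤˣ) g : ℤˣ) : ℤ)
          = -∑ β : S, (((β : G →* ℤˣ) g : ℤˣ) : ℤ) := by
        rw [← Finset.sum_neg_distrib]
        refine Finset.sum_congr rfl fun β _ => ?_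
        rw [Subgroup.coe_mul, MonoidHom.mul_apply, hm1]
        simp
      linarith
  have h2 : ∀ β : S, ∑ g : G, (((β : G →* ℤˣ) g : ℤˣ) : ℤ)
      = if β = 1 then (Nat.card G : ℤ) else 0 := by
    intro β
    split_ifs with h
    · rw [h]
      simp [Nat.card_eq_fintype_card]
    · exact sum_sign_eq_zero _ (fun h' => h (Subtype.ext h'))
  have h3 : ∑ g : G, ∑ β : S, (((β : G →* ℤˣ) g : ℤˣ) : ℤ) = (Nat.card G : ℤ) := by
    rw [Finset.sum_comm]
    simp only [h2]
    rw [Finset.sum_ite_eq' Finset.univ (1 : S) (fun _ => (Nat.card G : ℤ))]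
    simp
  have h4 : ∑ g : G, ∑ β : S, (((β : G →* ℤˣ) g : ℤˣ) : ℤ)
      = (Nat.card S : ℤ) * (Nat.card {g : G // ∀ β ∈ S, β g = 1} : ℤ) := by
    simp only [h1]
    rw [← Finset.sum_filter, Finset.sum_const, nsmul_eq_mul, mul_comm]
    congr 1
    rw [Nat.card_eq_fintype_card, Fintype.card_subtype]
  exact_mod_cast h4.symm.trans h3

/-- In a finite `2`-group, every element outside the Frattini subgroup is detected by a
sign homomorphism. -/
theorem exists_sign_of_not_mem_frattini {G : Type*} [Group G] [Finite G] (hG : IsPGroup 2 G)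
    {g : G} (hg : g ∉ frattini G) : ∃ β : G →* ℤˣ, β g ≠ 1 := by
  classical
  have h1 : ∃ M : Subgroup G, IsCoatom M ∧ g ∉ M := by
    by_contra h
    push_neg at h
    apply hg
    unfold frattini Order.radical
    rw [Subgroup.mem_iInf]
    intro M
    rw [Subgroup.mem_iInf]
    intro hM
    exact h M hM
  obtain ⟨M, hM, hgM⟩ := h1
  have hidx : M.index = 2 := Cfsg.Agent.Lead.coatom_index_of_isPGroup hG M hM
  let β : G →* ℤˣ :=
    { toFun := fun x => if x ∈ M then 1 else -1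
      map_one' := by simp [M.one_mem]
      map_mul' := fun a b => by
        by_cases ha : a ∈ M <;> by_cases hb : b ∈ M <;>
          simp [Subgroup.mul_mem_iff_of_index_two hidx, ha, hb] }
  refine ⟨β, ?_⟩
  show (if g ∈ M then (1 : ℤˣ) else -1) ≠ 1
  rw [if_neg hgM]
  decide

end Cfsg.Agent.Helper24
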