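import Mathlib
import Cfsg.Agent.Helper24.SignOrbit

set_option autoImplicit false

namespace Cfsg.Agent.Helper24

open Cfsg

attribute [local instance] signAction

/-- The stabilizer of an irreducible character under twisting by sign homomorphisms has
order at most the square of the degree. -/
theorem card_sign_stabilizer_le {G : Type*} [Group G] [Fintype G] (χ : IrrCharacter G) :
    Nat.card (MulAction.stabilizer (G →* ℤˣ) χ) ≤ charDegree (χ : G → ℂ) ^ 2 := by
  classical
  have h1 := card_mul_card_common_ker (MulAction.stabilizer (G →* ℤˣ) χ)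
  have hvan : ∀ g : G, ¬ (∀ β ∈ MulAction.stabilizer (G →* ℤˣ) χ, β g = 1) →
      (χ : G → ℂ) g = 0 := by
    intro g hg
    push_neg at hg
    obtain ⟨β, hβS, hβ⟩ := hg
    have hm1 : β g = -1 := (Int.units_eq_one_or _).resolve_left hβ
    have h2 : β • χ = χ := MulAction.mem_stabilizer_iff.mp hβS
    have h3 := congrArg (fun ψ : IrrCharacter G => (ψ : G → ℂ) g) h2
    simp only [signAction_apply, hm1] at h3
    have h4 : (-1 : ℂ) * (χ : G → ℂ) g = (χ : G → ℂ) g := by simpa using h3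
    linear_combination (-1 / 2 : ℂ) * h4
  have hsum := irr_norm_sum χ.2
  have hle : ∀ g : G, ‖(χ : G → ℂ) g‖ ^ 2
      ≤ if (∀ β ∈ MulAction.stabilizer (G →* ℤˣ) χ, β g = 1)
        then ((charDegree (χ : G → ℂ) : ℝ)) ^ 2 else 0 := by
    intro g
    split_ifs with h
    · have h5 := Helper25.char_norm_le (isCharacter_of_irr χ.2) g
      rw [charDegree_spec (isCharacter_of_irr χ.2)] at h5
      have h6 : ‖((charDegree (χ : G → ℂ) : ℕ) : ℂ)‖ = (charDegree (χ : G → ℂ) : ℝ) := by
        simp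
      rw [h6] at h5
      exact pow_le_pow_left₀ (norm_nonneg _) h5 2
    · rw [hvan g h]
      simp
  have h7 : (Nat.card G : ℝ)
      ≤ (Nat.card {g : G // ∀ β ∈ MulAction.stabilizer (G →* ℤˣ) χ, β g = 1} : ℝ)
        * (charDegree (χ : G → ℂ) : ℝ) ^ 2 := by
    rw [← hsum]
    calc ∑ g : G, ‖(χ : G → ℂ) g‖ ^ 2
        ≤ ∑ g : G, (if (∀ β ∈ MulAction.stabilizer (G →* ℤˣ) χ, β g = 1)
            then ((charDegree (χ : G → ℂ) : ℝ)) ^ 2 else 0) :=
          Finset.sum_le_sum fun g _ => hle g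
      _ = (Nat.card {g : G // ∀ β ∈ MulAction.stabilizer (G →* ℤˣ) χ, β g = 1} : ℝ)
          * (charDegree (χ : G → ℂ) : ℝ) ^ 2 := by
          rw [← Finset.sum_filter, Finset.sum_const, nsmul_eq_mul, Nat.card_eq_fintype_card,
            Fintype.card_subtype]
  have h8 : Nat.card G
      ≤ Nat.card {g : G // ∀ β ∈ MulAction.stabilizer (G →* ℤˣ) χ, β g = 1}
        * charDegree (χ : G → ℂ) ^ 2 := by
    exact_mod_cast h7
  have hpos : 0 < Nat.card {g : G // ∀ β ∈ MulAction.stabilizer (G →* ℤˣ) χ, β g = 1} :=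
    Nat.card_pos_iff.mpr ⟨⟨⟨1, fun β _ => map_one β⟩⟩, inferInstance⟩
  rw [← h1, mul_comm] at h8
  exact Nat.le_of_mul_le_mul_left h8 hpos

/-- A finite `2`-group has at least `|G / Φ(G)|` sign homomorphisms. -/
theorem card_quot_frattini_le_card_sign {G : Type*} [Group G] [Fintype G]
    (hG : IsPGroup 2 G) : Nat.card (G ⧸ frattini G) ≤ Nat.card (G →* ℤˣ) := by
  classical
  have hfin : Finite (G →* ℤˣ) :=
    Finite.of_injective (fun f => (f : G → ℤˣ)) DFunLike.coe_injective
  have h1 := card_mul_card_common_ker (⊤ : Subgroup (G →* ℤˣ))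
  have hmem : ∀ x : G, (∀ β ∈ (⊤ : Subgroup (G →* ℤˣ)), β x = 1) → x ∈ frattini G := by
    intro x hx
    by_contra hx'
    obtain ⟨β, hβ⟩ := exists_sign_of_not_mem_frattini hG hx'
    exact hβ (hx β (Subgroup.mem_top β))
  have h2 : Nat.card {g : G // ∀ β ∈ (⊤ : Subgroup (G →* ℤˣ)), β g = 1}
      ≤ Nat.card (frattini G) := by
    apply Nat.card_le_card_of_injective
      (fun x : {g : G // ∀ β ∈ (⊤ : Subgroup (G →* ℤˣ)), β g = 1} =>
        (⟨x.1, hmem x.1 x.2⟩ : frattini G))
    intro x y hxy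
    exact Subtype.ext (congrArg (fun z : frattini G => (z : G)) hxy)
  have h3 : Nat.card G = Nat.card (G ⧸ frattini G) * Nat.card (frattini G) :=
    Subgroup.card_eq_card_quotient_mul_card_subgroup _
  have hpos : 0 < Nat.card {g : G // ∀ β ∈ (⊤ : Subgroup (G →* ℤˣ)), β g = 1} :=
    Nat.card_pos_iff.mpr ⟨⟨⟨1, fun β _ => map_one β⟩⟩, inferInstance⟩
  rw [Subgroup.card_top] at h1
  have h5 : Nat.card (G ⧸ frattini G)
        * Nat.card {g : G // ∀ β ∈ (⊤ : Subgroup (G →* ℤˣ)), β g = 1}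
      ≤ Nat.card (G →* ℤˣ)
        * Nat.card {g : G // ∀ β ∈ (⊤ : Subgroup (G →* ℤˣ)), β g = 1} := by
    rw [h1, h3]
    exact Nat.mul_le_mul_left _ h2
  exact Nat.le_of_mul_le_mul_right h5 hpos

/-- In a finite `2`-group `G` with `|G / Φ(G)| ≥ 2 ^ (2k+1)`, the number of solutions of
`x ^ 2 = 1` is divisible by `2 ^ (k+1)`. -/
theorem involution_count_dvd {G : Type*} [Group G] [Finite G] (hG : IsPGroup 2 G) (k : ℕ)
    (hgen : 2 ^ (2 * k + 1) ≤ Nat.card (G ⧸ frattini G)) :
    2 ^ (k + 1) ∣ Nat.card {x : G // x ^ 2 = 1} := by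
  classical
  have := Fintype.ofFinite G
  have := finite_irrCharacter (G := G)
  have := Fintype.ofFinite (IrrCharacter G)
  have hΛfin : Finite (G →* ℤˣ) :=
    Finite.of_injective (fun f => (f : G → ℤˣ)) DFunLike.coe_injective
  have hA := Helper25.sqrt_count (G := G) 1
  have hex : ∀ χ : IrrCharacter G, ∃ z : ℤ,
      (z : ℂ) = (Nat.card G : ℂ)⁻¹ * ∑ s : G, (χ : G → ℂ) (s * s) := by
    intro χ
    have hfs := Helper25.fs_indicator χ.2
    by_cases hre : ∀ s : G, ((χ : G → ℂ) s).im = 0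
    · rcases hfs.1 hre with h | h
      · exact ⟨1, by rw [h]; simp⟩
      · exact ⟨-1, by rw [h]; simp⟩
    · push_neg at hre
      exact ⟨0, by rw [hfs.2 hre]; simp⟩
  choose e he using hex
  have hN : (Nat.card {s : G // s * s = 1} : ℤ)
      = ∑ χ : IrrCharacter G, e χ * (charDegree (χ : G → ℂ) : ℤ) := by
    have h1 : ((Nat.card {s : G // s * s = 1} : ℤ) : ℂ)
        = ((∑ χ : IrrCharacter G, e χ * (charDegree (χ : G → ℂ) : ℤ) : ℤ) : ℂ) := by
      push_cast
      rw [hA]
      refine Finset.sum_congr rfl fun χ _ => ?_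
      rw [he χ, charDegree_spec (isCharacter_of_irr χ.2)]
    exact Int.cast_injective h1
  have hcard : Nat.card {x : G // x ^ 2 = 1} = Nat.card {s : G // s * s = 1} := by
    simp only [pow_two]
  have hΛ2 : IsPGroup 2 (G →* ℤˣ) := by
    intro β
    refine ⟨1, ?_⟩
    rw [pow_one, pow_two]
    ext g
    simp [Int.units_mul_self]
  obtain ⟨m, hm⟩ := IsPGroup.iff_card.mp hΛ2
  have hm2k : 2 * k + 1 ≤ m := by
    have h1 := le_trans hgen (card_quot_frattini_le_card_sign hG)
    rw [hm] at h1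
    exact (Nat.pow_le_pow_iff_right (by norm_num : 1 < 2)).mp h1
  have hmain : ((2 : ℤ) ^ (k + 1))
      ∣ ∑ χ : IrrCharacter G, e χ * (charDegree (χ : G → ℂ) : ℤ) := by
    apply dvd_sum_of_orbit (Λ := G →* ℤˣ)
    · intro β χ
      have hd : charDegree ((β • χ : IrrCharacter G) : G → ℂ) = charDegree (χ : G → ℂ) := by
        have h1 := charDegree_spec (isCharacter_of_irr (β • χ).2)
        have h2 := charDegree_spec (isCharacter_of_irr χ.2)
        have h3 : ((β • χ : IrrCharacter G) : G → ℂ) 1 = (χ : G → ℂ) 1 := by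
          rw [signAction_apply]
          simp
        rw [h1, h2] at h3
        exact_mod_cast h3
      have hν : e (β • χ) = e χ := by
        apply Int.cast_injective (α := ℂ)
        rw [he, he]
        congr 1
        refine Finset.sum_congr rfl fun s _ => ?_
        rw [signAction_apply, map_mul, Int.units_mul_self]
        simp
      rw [hd, hν]
    · intro χ
      have hos : Nat.card (MulAction.orbit (G →* ℤˣ) χ)
          * Nat.card (MulAction.stabilizer (G →* ℤˣ) χ) = 2 ^ m := by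
        rw [← hm, Nat.card_coe_set_eq, ← MulAction.index_stabilizer, mul_comm]
        exact Subgroup.card_mul_index _
      have hSle := card_sign_stabilizer_le χ
      obtain ⟨a, ha⟩ : ∃ a, charDegree (χ : G → ℂ) = 2 ^ a := by
        obtain ⟨n, hn⟩ := IsPGroup.iff_card.mp hG
        have h1 := Helper2.irr_degree_dvd_card χ.2
        rw [hn] at h1
        obtain ⟨a, _, ha⟩ := (Nat.dvd_prime_pow Nat.prime_two).mp h1
        exact ⟨a, ha⟩
      obtain ⟨o, _, ho⟩ := (Nat.dvd_prime_pow Nat.prime_two).mp (Dvd.intro _ hos)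
      obtain ⟨s, _, hs⟩ := (Nat.dvd_prime_pow Nat.prime_two).mp (Dvd.intro_left _ hos)
      have hosm : o + s = m := by
        rw [ho, hs, ← pow_add] at hos
        exact Nat.pow_right_injective (le_refl 2) hos
      have hs2a : s ≤ 2 * a := by
        rw [hs, ha, ← pow_mul] at hSle
        have := (Nat.pow_le_pow_iff_right (by norm_num : 1 < 2)).mp hSle
        omega
      have hcore : 2 ^ (k + 1)
          ∣ Nat.card (MulAction.orbit (G →* ℤˣ) χ) * charDegree (χ : G → ℂ) := by
        rw [ho, ha, ← pow_add]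
        exact pow_dvd_pow 2 (by omega)
      have h1 : ((2 : ℤ) ^ (k + 1))
          ∣ ((Nat.card (MulAction.orbit (G →* ℤˣ) χ) * charDegree (χ : G → ℂ) : ℕ) : ℤ) := by
        exact_mod_cast hcore
      have h2 : (Nat.card (MulAction.orbit (G →* ℤˣ) χ) : ℤ)
            * (e χ * (charDegree (χ : G → ℂ) : ℤ))
          = e χ * ((Nat.card (MulAction.orbit (G →* ℤˣ) χ)
              * charDegree (χ : G → ℂ) : ℕ) : ℤ) := by
        push_cast
        ring
      rw [h2]
      exact Dvd.dvd.mul_left h1 _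
  have hfinal : ((2 ^ (k + 1) : ℕ) : ℤ) ∣ (Nat.card {x : G // x ^ 2 = 1} : ℤ) := by
    rw [hcard, hN]
    exact_mod_cast hmain
  exact Int.natCast_dvd_natCast.mp hfinal

end Cfsg.Agent.Helper24
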