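import Mathlib
import Cfsg.Prelude.Def_JordanBlocks

set_option autoImplicit false

open Matrix

namespace Cfsg.Agent.Helper24

/-- The partial permutation matrix `[p.1 = q.1 ∧ p.2 = q.2 + k]`. -/
def jshift {t : ℕ} (d : Fin t → ℕ) (F : Type*) [Field F] (k : ℕ) :
    Matrix ((i : Fin t) × Fin (d i)) ((i : Fin t) × Fin (d i)) F :=
  Matrix.of fun p q => if p.1 = q.1 ∧ (p.2 : ℕ) = (q.2 : ℕ) + k then 1 else 0

theorem jsig_ext {t : ℕ} {d : Fin t → ℕ} (p q : (i : Fin t) × Fin (d i)) :
    p = q ↔ p.1 = q.1 ∧ (p.2 : ℕ) = (q.2 : ℕ) := by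
  constructor
  · rintro rfl
    exact ⟨rfl, rfl⟩
  · obtain ⟨i, a⟩ := p
    obtain ⟨j, b⟩ := q
    rintro ⟨h1, h2⟩
    simp only at h1
    subst h1
    simp only at h2
    have : a = b := Fin.ext h2
    rw [this]

theorem jshift_apply {t : ℕ} (d : Fin t → ℕ) (F : Type*) [Field F] (k : ℕ)
    (p q : (i : Fin t) × Fin (d i)) :
    jshift d F k p q = if p.1 = q.1 ∧ (p.2 : ℕ) = (q.2 : ℕ) + k then 1 else 0 := rfl

theorem jshift_zero {t : ℕ} (d : Fin t → ℕ) (F : Type*) [Field F] :
    jshift d F 0 = 1 := by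
  ext p q
  rw [jshift_apply, Matrix.one_apply]
  by_cases h : p = q
  · rw [if_pos h, if_pos]
    rw [jsig_ext] at h
    simpa using h
  · rw [if_neg h, if_neg]
    intro h'
    apply h
    rw [jsig_ext]
    simpa using h'

theorem jshift_one {t : ℕ} (d : Fin t → ℕ) (F : Type*) [Field F] :
    Cfsg.jordanTypeMatrix d F - 1 = jshift d F 1 := by
  ext ⟨i, a⟩ ⟨j, b⟩
  rw [jshift_apply, Matrix.sub_apply, Matrix.one_apply]
  by_cases h : i = j
  · subst h
    rw [Cfsg.jordanTypeMatrix, Matrix.blockDiagonal'_apply_eq]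
    simp only [Cfsg.jordanBlock, Matrix.of_apply]
    by_cases hab : a = b
    · subst hab
      simp
    · have h1 : (a : ℕ) ≠ b := fun h => hab (Fin.ext h)
      have h2 : ¬ ((⟨i, a⟩ : (i : Fin t) × Fin (d i)) = ⟨i, b⟩) := by
        intro h
        apply hab
        rw [jsig_ext] at h
        exact Fin.ext h.2
      simp [h1, h2]
  · have h2 : ¬ ((⟨i, a⟩ : (i : Fin t) × Fin (d i)) = ⟨j, b⟩) := by
      intro h'
      exact h (congrArg Sigma.fst h')
    rw [Cfsg.jordanTypeMatrix, Matrix.blockDiagonal'_apply_ne _ _ _ h, if_neg h2, if_neg]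
    · simp
    · rintro ⟨h3, -⟩
      exact h h3

theorem jshift_mul {t : ℕ} (d : Fin t → ℕ) (F : Type*) [Field F] (k : ℕ) :
    jshift d F k * jshift d F 1 = jshift d F (k + 1) := by
  ext p q
  rw [Matrix.mul_apply]
  by_cases hq : (q.2 : ℕ) + 1 < d q.1
  · rw [Finset.sum_eq_single (⟨q.1, ⟨q.2 + 1, hq⟩⟩ : (i : Fin t) × Fin (d i))]
    · rw [jshift_apply, jshift_apply, jshift_apply]
      have e2 : ((⟨q.1, ⟨q.2 + 1, hq⟩⟩ : (i : Fin t) × Fin (d i)).1 = q.1 ∧
          ((⟨q.1, ⟨q.2 + 1, hq⟩⟩ : (i : Fin t) × Fin (d i)).2 : ℕ) = (q.2 : ℕ) + 1) :=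
        ⟨rfl, rfl⟩
      rw [if_pos e2, mul_one]
      apply if_congr _ rfl rfl
      constructor
      · rintro ⟨h1, h2⟩
        have h2' : (p.2 : ℕ) = (q.2 : ℕ) + 1 + k := h2
        exact ⟨h1, by omega⟩
      · rintro ⟨h1, h2⟩
        refine ⟨h1, ?_⟩
        show (p.2 : ℕ) = (q.2 : ℕ) + 1 + k
        omega
    · intro r _ hr
      rw [jshift_apply d F 1, if_neg, mul_zero]
      rintro ⟨h1, h2⟩
      apply hr
      rw [jsig_ext]
      exact ⟨h1, h2⟩
    · intro h
      exact absurd (Finset.mem_univ _) h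
  · rw [Finset.sum_eq_zero, jshift_apply, if_neg]
    · rintro ⟨h1, h2⟩
      have := p.2.isLt
      have h3 : d p.1 = d q.1 := congrArg d h1
      omega
    · intro r _
      rw [jshift_apply d F 1, if_neg, mul_zero]
      rintro ⟨h1, h2⟩
      have := r.2.isLt
      have h3 : d r.1 = d q.1 := congrArg d h1
      omega

theorem jshift_pow {t : ℕ} (d : Fin t → ℕ) (F : Type*) [Field F] (k : ℕ) :
    (Cfsg.jordanTypeMatrix d F - 1) ^ k = jshift d F k := by
  induction k with
  | zero => rw [pow_zero, jshift_zero]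
  | succ k ih => rw [pow_succ, ih, jshift_one, jshift_mul]

theorem jcount (n k : ℕ) : (∑ a ∈ Finset.range n, if k ≤ a then 1 else 0) = n - k := by
  induction n with
  | zero => simp
  | succ n ih =>
    rw [Finset.sum_range_succ, ih]
    split_ifs <;> omega

theorem jshift_rank {t : ℕ} (d : Fin t → ℕ) (F : Type*) [Field F] (k : ℕ) :
    (jshift d F k).rank = ∑ i, (d i - k) := by
  classical
  rw [Matrix.rank_eq_finrank_span_cols]
  have hspan : Submodule.span F (Set.range (jshift d F k).col)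
      = Submodule.span F (Set.range
        (fun p : {p : (i : Fin t) × Fin (d i) // k ≤ (p.2 : ℕ)} =>
          (Pi.single (p : (i : Fin t) × Fin (d i)) (1 : F) :
            ((i : Fin t) × Fin (d i)) → F))) := by
    apply le_antisymm
    · rw [Submodule.span_le]
      rintro _ ⟨q, rfl⟩
      by_cases hq : (q.2 : ℕ) + k < d q.1
      · apply Submodule.subset_span
        refine ⟨⟨⟨q.1, ⟨q.2 + k, hq⟩⟩, by simp⟩, ?_⟩
        ext p
        rw [Matrix.col_apply, jshift_apply]
        show (Pi.single (⟨q.1, ⟨q.2 + k, hq⟩⟩ : (i : Fin t) × Fin (d i)) (1 : F) :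
          ((i : Fin t) × Fin (d i)) → F) p = _
        rw [Pi.single_apply]
        by_cases hp : p.1 = q.1 ∧ (p.2 : ℕ) = (q.2 : ℕ) + k
        · rw [if_pos hp, if_pos]
          rw [jsig_ext]
          exact hp
        · rw [if_neg hp, if_neg]
          intro h
          apply hp
          rw [jsig_ext] at h
          exact h
      · have h0 : (jshift d F k).col q = 0 := by
          ext p
          rw [Matrix.col_apply, jshift_apply, Pi.zero_apply, if_neg]
          rintro ⟨h1, h2⟩
          have := p.2.isLt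
          have h3 : d p.1 = d q.1 := congrArg d h1
          omega
        rw [h0]
        exact Submodule.zero_mem _
    · rw [Submodule.span_le]
      rintro _ ⟨⟨p, hp⟩, rfl⟩
      apply Submodule.subset_span
      refine ⟨⟨p.1, ⟨p.2 - k, by have := p.2.isLt; omega⟩⟩, ?_⟩
      ext r
      rw [Matrix.col_apply, jshift_apply]
      show _ = (Pi.single p (1 : F) : ((i : Fin t) × Fin (d i)) → F) r
      rw [Pi.single_apply]
      by_cases hr : r = p
      · rw [if_pos hr, if_pos]
        rw [jsig_ext] at hr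
        refine ⟨hr.1, ?_⟩
        have := hr.2
        simp only
        omega
      · rw [if_neg hr, if_neg]
        rintro ⟨h1, h2⟩
        apply hr
        rw [jsig_ext]
        refine ⟨h1, ?_⟩
        simp only at h2
        omega
  have hli : LinearIndependent F
      (fun p : {p : (i : Fin t) × Fin (d i) // k ≤ (p.2 : ℕ)} =>
          (Pi.single (p : (i : Fin t) × Fin (d i)) (1 : F) :
            ((i : Fin t) × Fin (d i)) → F)) :=
    (Pi.linearIndependent_single_one _ F).comp Subtype.val Subtype.val_injective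
  rw [hspan, finrank_span_eq_card hli]
  rw [Fintype.card_subtype, Finset.card_filter, Fintype.sum_sigma]
  apply Finset.sum_congr rfl
  intro i _
  rw [Fin.sum_univ_eq_sum_range (fun a => if k ≤ a then 1 else 0) (d i)]
  exact jcount (d i) k

theorem jordanType_rank {F : Type*} [Field F] {t : ℕ} (d : Fin t → ℕ) (k : ℕ) :
    ((Cfsg.jordanTypeMatrix d F - 1) ^ k).rank = ∑ i, (d i - k) := by
  rw [jshift_pow, jshift_rank]

end Cfsg.Agent.Helper24
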