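import Mathlib
import Cfsg.Prelude.Def_JordanBlocks
import Cfsg.Agent.Helper17.ShiftRank
import Cfsg.Agent.Helper21.BlockRank

set_option autoImplicit false

open Matrix

namespace Cfsg.Agent.Helper24

theorem jsa_fb {F : Type*} [Field F] {m : ℕ} {A A' B B' C C' D D' : Matrix (Fin m) (Fin m) F}
    (h1 : A = A') (h2 : B = B') (h3 : C = C') (h4 : D = D') :
    fromBlocks A B C D = fromBlocks A' B' C' D' := by
  rw [h1, h2, h3, h4]

theorem jsa_diag_pow {F : Type*} [Field F] {m : ℕ} (X Y : Matrix (Fin m) (Fin m) F) (i : ℕ) :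
    (fromBlocks X 0 0 Y) ^ i = fromBlocks (X ^ i) 0 0 (Y ^ i) := by
  induction i with
  | zero => rw [pow_zero, pow_zero, pow_zero, fromBlocks_one]
  | succ i ih =>
    rw [pow_succ, ih, fromBlocks_multiply, pow_succ, pow_succ]
    apply jsa_fb <;> simp

theorem jsa_rank {F : Type*} [Field F] {m : ℕ} (S : Matrix (Fin m) (Fin m) F)
    (hrank : ∀ k, (S ^ k).rank = m - k) (k : ℕ) :
    ((fromBlocks 1 S 1 (1 + S) - 1 : Matrix (Fin m ⊕ Fin m) (Fin m ⊕ Fin m) F) ^ k).rank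
      = 2 * m - k := by
  obtain ⟨N, hN⟩ : ∃ N : Matrix (Fin m ⊕ Fin m) (Fin m ⊕ Fin m) F,
      N = fromBlocks 0 S 1 S := ⟨_, rfl⟩
  obtain ⟨Sg, hSg⟩ : ∃ Sg : Matrix (Fin m ⊕ Fin m) (Fin m ⊕ Fin m) F,
      Sg = fromBlocks S 0 0 S := ⟨_, rfl⟩
  obtain ⟨A, hAdef⟩ : ∃ A : Matrix (Fin m ⊕ Fin m) (Fin m ⊕ Fin m) F,
      A = fromBlocks 1 S 1 (1 + S) := ⟨_, rfl⟩
  rw [← hAdef]
  have hA1 : A = 1 + N := by
    rw [hAdef, hN, ← fromBlocks_one, fromBlocks_add]
    apply jsa_fb <;> simp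
  have hAN : A - 1 = N := by rw [hA1, add_sub_cancel_left]
  have hNN : N * N = Sg * A := by
    rw [hN, hSg, hAdef, fromBlocks_multiply, fromBlocks_multiply]
    apply jsa_fb <;> simp [mul_add]
  have hcomm : Commute Sg N := by
    show Sg * N = N * Sg
    rw [hN, hSg, fromBlocks_multiply, fromBlocks_multiply]
    apply jsa_fb <;> simp
  have hcommA : Commute Sg A := by
    rw [hA1]
    exact (Commute.one_right Sg).add_right hcomm
  have hNA : Commute N A := by
    rw [hA1]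
    exact (Commute.one_right N).add_right (Commute.refl N)
  have hdetA : IsUnit A.det := by
    rw [hAdef, det_fromBlocks_one₁₁]
    simp
  have hSgpow : ∀ i, Sg ^ i = fromBlocks (S ^ i) 0 0 (S ^ i) := by
    intro i
    rw [hSg]
    exact jsa_diag_pow S S i
  have heven : ∀ i, N ^ (2 * i) = Sg ^ i * A ^ i := by
    intro i
    rw [pow_mul, pow_two, hNN, hcommA.mul_pow]
  have hdetAi : ∀ i, IsUnit (A ^ i).det := by
    intro i
    rw [det_pow]
    exact hdetA.pow i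
  have hrankE : ∀ i, (N ^ (2 * i)).rank = (m - i) + (m - i) := by
    intro i
    rw [heven, rank_mul_eq_left_of_isUnit_det _ _ (hdetAi i), hSgpow,
      Helper21.br21_rank_fromBlocks, hrank]
  have hodd : ∀ i, N ^ (2 * i + 1) = (Sg ^ i * N) * A ^ i := by
    intro i
    rw [pow_succ, heven, mul_assoc, mul_assoc]
    congr 1
    exact (hNA.pow_right i).eq.symm
  have hfac : ∀ i, Sg ^ i * N
      = fromBlocks (S ^ (i + 1)) 0 0 (S ^ i) * fromBlocks 0 1 1 0 * fromBlocks 1 S 0 1 := by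
    intro i
    rw [hSgpow, hN, fromBlocks_multiply, fromBlocks_multiply, fromBlocks_multiply]
    apply jsa_fb <;> simp [pow_succ]
  have hW : IsUnit
      (fromBlocks 0 1 1 0 : Matrix (Fin m ⊕ Fin m) (Fin m ⊕ Fin m) F).det := by
    apply Matrix.isUnit_det_of_right_inverse
      (B := (fromBlocks 0 1 1 0 : Matrix (Fin m ⊕ Fin m) (Fin m ⊕ Fin m) F))
    rw [fromBlocks_multiply, ← fromBlocks_one]
    apply jsa_fb <;> simp
  have hU : IsUnit
      (fromBlocks 1 S 0 1 : Matrix (Fin m ⊕ Fin m) (Fin m ⊕ Fin m) F).det := by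
    rw [det_fromBlocks_zero₂₁]
    simp
  have hrankO : ∀ i, (N ^ (2 * i + 1)).rank = (m - (i + 1)) + (m - i) := by
    intro i
    rw [hodd, rank_mul_eq_left_of_isUnit_det _ _ (hdetAi i), hfac,
      rank_mul_eq_left_of_isUnit_det _ _ hU, rank_mul_eq_left_of_isUnit_det _ _ hW,
      Helper21.br21_rank_fromBlocks, hrank, hrank]
  rw [hAN]
  rcases Nat.even_or_odd' k with ⟨i, rfl | rfl⟩
  · rw [hrankE]
    omega
  · rw [hrankO]
    omega

theorem jsa_core {F : Type*} [Field F] {m : ℕ} (S R : Matrix (Fin m) (Fin m) F)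
    (hR1 : Rᵀ = R) (hR2 : R * R = 1) (hSR : Sᵀ * R = R * S)
    (hrank : ∀ k, (S ^ k).rank = m - k) :
    ∃ A M : Matrix (Fin m ⊕ Fin m) (Fin m ⊕ Fin m) F, (∀ v, v ⬝ᵥ M *ᵥ v = 0) ∧ M.det ≠ 0 ∧
      Aᵀ * M * A = M ∧ ∀ k, ((A - 1) ^ k).rank = 2 * m - k := by
  refine ⟨fromBlocks 1 S 1 (1 + S), fromBlocks 0 R (-R) 0, ?_, ?_, ?_, jsa_rank S hrank⟩
  · intro v
    rw [fromBlocks_mulVec]
    have hsplit : ∀ (a b : Fin m → F), v ⬝ᵥ (Sum.elim a b)
        = (v ∘ Sum.inl) ⬝ᵥ a + (v ∘ Sum.inr) ⬝ᵥ b := by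
      intro a b
      simp [dotProduct, Fintype.sum_sum_type]
    rw [hsplit]
    have h1 : (v ∘ Sum.inr) ⬝ᵥ R *ᵥ (v ∘ Sum.inl) = (v ∘ Sum.inl) ⬝ᵥ R *ᵥ (v ∘ Sum.inr) := by
      rw [Matrix.dotProduct_mulVec, ← Matrix.mulVec_transpose, hR1, dotProduct_comm]
    simp only [Matrix.zero_mulVec, zero_add, add_zero, Matrix.neg_mulVec, dotProduct_neg, h1]
    ring
  · have hMM : fromBlocks 0 R (-R) 0 * (-(fromBlocks 0 R (-R) 0))
        = (1 : Matrix (Fin m ⊕ Fin m) (Fin m ⊕ Fin m) F) := by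
      rw [fromBlocks_neg, fromBlocks_multiply, ← fromBlocks_one]
      apply jsa_fb <;> simp [hR2]
    exact (Matrix.isUnit_det_of_right_inverse hMM).ne_zero
  · rw [fromBlocks_transpose, fromBlocks_multiply, fromBlocks_multiply]
    apply jsa_fb
    · simp
    · simp [mul_add]
    · simp [add_mul]
    · simp only [transpose_add, transpose_one, mul_zero, zero_add, add_zero, add_mul, mul_add,
        one_mul, mul_one, mul_neg, neg_mul, hSR]
      abel

theorem even_block_form_alt {F : Type*} [Field F] (m : ℕ) :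
    ∃ A M : Matrix (Fin m ⊕ Fin m) (Fin m ⊕ Fin m) F, (∀ v, v ⬝ᵥ M *ᵥ v = 0) ∧ M.det ≠ 0 ∧
      Aᵀ * M * A = M ∧ ∀ k, ((A - 1) ^ k).rank = 2 * m - k := by
  obtain ⟨R, hR⟩ : ∃ R : Matrix (Fin m) (Fin m) F,
      R = (1 : Matrix (Fin m) (Fin m) F).submatrix Fin.rev id := ⟨_, rfl⟩
  have hrev : ∀ a b : Fin m, (Fin.rev a = b) ↔ (Fin.rev b = a) := by
    intro a b
    rw [Fin.ext_iff, Fin.ext_iff, Fin.val_rev, Fin.val_rev]
    have := a.isLt
    have := b.isLt
    omega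
  have hRapp : ∀ a b, R a b = if Fin.rev a = b then 1 else 0 := by
    intro a b
    rw [hR, submatrix_apply, one_apply]
    rfl
  have hRapp' : ∀ a b, R a b = if Fin.rev b = a then 1 else 0 := by
    intro a b
    rw [hRapp]
    exact if_congr (hrev a b) rfl rfl
  apply jsa_core (Cfsg.jordanBlock m F - 1) R
  · ext a b
    rw [transpose_apply, hRapp, hRapp']
  · ext a b
    rw [mul_apply, one_apply]
    simp only [hRapp, ite_mul, one_mul, zero_mul, Finset.sum_ite_eq, Finset.mem_univ, if_true,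
      Fin.rev_rev]
  · ext a b
    have e1 : ((Cfsg.jordanBlock m F - 1 : Matrix (Fin m) (Fin m) F)ᵀ * R) a b
        = (Cfsg.jordanBlock m F - 1 : Matrix (Fin m) (Fin m) F) (Fin.rev b) a := by
      rw [mul_apply]
      simp only [hRapp', transpose_apply, mul_ite, mul_one, mul_zero, Finset.sum_ite_eq,
        Finset.mem_univ, if_true]
    have e2 : (R * (Cfsg.jordanBlock m F - 1 : Matrix (Fin m) (Fin m) F)) a b
        = (Cfsg.jordanBlock m F - 1 : Matrix (Fin m) (Fin m) F) (Fin.rev a) b := by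
      rw [mul_apply]
      simp only [hRapp, ite_mul, one_mul, zero_mul, Finset.sum_ite_eq, Finset.mem_univ, if_true]
    rw [e1, e2, Helper17.jb_sub_one_apply, Helper17.jb_sub_one_apply]
    apply if_congr _ rfl rfl
    rw [Fin.val_rev, Fin.val_rev]
    have := a.isLt
    have := b.isLt
    omega
  · intro k
    exact Helper17.jb_sub_one_pow_rank m k

end Cfsg.Agent.Helper24
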