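import Mathlib
import Cfsg.Agent.Helper24.ExtraCent

set_option autoImplicit false

namespace Cfsg.Agent.Helper24

open scoped commutatorElement

universe u

/-- Between a subgroup of order `p` and one of order `p ^ 2` there is nothing. -/
theorem eq_of_lt_of_card_prime_sq {G : Type*} [Group G] [Finite G] {p : ℕ} (hp : p.Prime)
    {H L K : Subgroup G} (hH : Nat.card H = p) (hK : Nat.card K = p ^ 2) (hHL : H < L)
    (hLK : L ≤ K) : L = K := by
  have h1 : Nat.card L ∣ p ^ 2 := hK ▸ Subgroup.card_dvd_of_le hLK
  obtain ⟨k, hk, hkL⟩ := (Nat.dvd_prime_pow hp).mp h1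
  have h2 : p ∣ Nat.card L := hH ▸ Subgroup.card_dvd_of_le hHL.le
  have hk0 : k ≠ 0 := by
    rintro rfl
    rw [hkL, pow_zero] at h2
    exact hp.one_lt.ne' (Nat.dvd_one.mp h2)
  have hk1 : k ≠ 1 := by
    rintro rfl
    rw [pow_one] at hkL
    have := Subgroup.eq_of_le_of_card_ge hHL.le (by rw [hH, hkL])
    exact hHL.ne this
  have hk2 : k = 2 := by omega
  subst hk2
  exact Subgroup.eq_of_le_of_card_ge hLK (by rw [hK, hkL])

/-- A `p`-group of order `p ^ n` with a self-centralizing subgroup of order `p ^ 2` has
nilpotency class `n - 1`. -/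
theorem nilpotencyClass_of_self_centralizing_sq {p : ℕ} [Fact p.Prime] (n : ℕ) :
    ∀ (X : Type u) [Group X] [Finite X], Nat.card X = p ^ n → ∀ (A : Subgroup X),
      Nat.card A = p ^ 2 → Subgroup.centralizer (A : Set X) = A →
      Group.nilpotencyClass X = n - 1 := by
  induction n using Nat.strong_induction_on with
  | _ n ih =>
  intro X _ _ hX A hA hC
  have hpp : p.Prime := Fact.out
  have hPG : IsPGroup p X := IsPGroup.of_card hX
  haveI : Group.IsNilpotent X := hPG.isNilpotent
  have hn2 : 2 ≤ n := by
    have := Subgroup.card_subgroup_dvd_card A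
    rw [hA, hX] at this
    exact (Nat.pow_dvd_pow_iff_le_right hpp.one_lt).mp this
  haveI : Nontrivial X := by
    apply Finite.one_lt_card_iff_nontrivial.mp
    rw [hX]
    exact Nat.one_lt_pow (by omega) hpp.one_lt
  rw [Group.nilpotencyClass_eq_quotient_center_plus_one]
  rcases Nat.eq_or_lt_of_le hn2 with h2 | h3
  · subst h2
    have hcomm : IsMulCommutative X := IsPGroup.isMulCommutative_of_card_eq_prime_sq hX
    have hsub : Subsingleton (X ⧸ Subgroup.center X) := by
      have htop : Subgroup.center X = ⊤ := by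
        rw [eq_top_iff]
        intro x _
        rw [Subgroup.mem_center_iff]
        intro g
        exact hcomm.is_comm.comm g x
      rw [htop]
      exact QuotientGroup.subsingleton_quotient_top
    rw [Group.nilpotencyClass_zero_iff_subsingleton.mpr hsub]
  · -- `n ≥ 3`
    set Z := Subgroup.center X with hZdef
    have hZA : Z ≤ A := by
      have := Subgroup.center_le_centralizer (A : Set X)
      rwa [hC] at this
    have hZnt : Nontrivial Z := hPG.center_nontrivial
    have hZneA : Z ≠ A := by
      intro h
      have h1 : Subgroup.centralizer (A : Set X) = ⊤ := by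
        rw [← h, hZdef]
        exact Subgroup.centralizer_eq_top_iff_subset.mpr (le_refl _)
      rw [hC] at h1
      have h2 : Nat.card A = Nat.card X := by rw [h1, Subgroup.card_top]
      rw [hA, hX] at h2
      have := Nat.pow_right_injective hpp.two_le h2
      omega
    have hZcard : Nat.card Z = p := by
      have h1 : Nat.card Z ∣ p ^ 2 := hA ▸ Subgroup.card_dvd_of_le hZA
      obtain ⟨k, hk, hkZ⟩ := (Nat.dvd_prime_pow hpp).mp h1
      have hk0 : k ≠ 0 := by
        rintro rfl
        rw [pow_zero] at hkZ
        have := Finite.one_lt_card_iff_nontrivial.mpr hZnt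
        omega
      have hk2 : k ≠ 2 := by
        rintro rfl
        exact hZneA (Subgroup.eq_of_le_of_card_ge hZA (by rw [hA, hkZ]))
      have hk1 : k = 1 := by omega
      rw [hkZ, hk1, pow_one]
    obtain ⟨a₀, ha₀A, ha₀Z⟩ := SetLike.exists_of_lt (lt_of_le_of_ne hZA hZneA)
    have hAcomm : ∀ a ∈ A, ∀ b ∈ A, a * b = b * a := by
      have hc : IsMulCommutative A := IsPGroup.isMulCommutative_of_card_eq_prime_sq hA
      intro a ha b hb
      have := hc.is_comm.comm ⟨a, ha⟩ ⟨b, hb⟩
      exact congrArg Subtype.val this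
    -- centraliser of `a₀` is `A`
    have hCa₀ : ∀ c : X, c * a₀ = a₀ * c → c ∈ A := by
      intro c hc
      have hsup : Z ⊔ Subgroup.zpowers a₀ = A := by
        apply eq_of_lt_of_card_prime_sq hpp hZcard hA
        · refine lt_of_le_of_ne le_sup_left ?_
          intro h
          apply ha₀Z
          rw [h]
          exact (le_sup_right : Subgroup.zpowers a₀ ≤ _) (Subgroup.mem_zpowers a₀)
        · exact sup_le hZA (by rw [Subgroup.zpowers_le]; exact ha₀A)
      rw [← hC, Subgroup.mem_centralizer_iff]
      intro a ha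
      have hle : Z ⊔ Subgroup.zpowers a₀ ≤ Subgroup.centralizer {c} := by
        apply sup_le
        · exact Subgroup.center_le_centralizer _
        · rw [Subgroup.zpowers_le, Subgroup.mem_centralizer_iff]
          intro x hx
          rw [Set.mem_singleton_iff.mp hx]
          exact hc
      rw [SetLike.mem_coe, ← hsup] at ha
      have h1 := hle ha
      rw [Subgroup.mem_centralizer_iff] at h1
      exact (h1 c rfl).symm
    -- the quotient
    set π := QuotientGroup.mk' Z with hπ
    have hπsurj : Function.Surjective π := QuotientGroup.mk'_surjective Z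
    have hkerπ : π.ker = Z := QuotientGroup.ker_mk' Z
    set Nb : Subgroup (X ⧸ Z) := Subgroup.centralizer {π a₀} with hNb
    set N : Subgroup X := Nb.comap π with hN
    have hcardQ : Nat.card (X ⧸ Z) = p ^ (n - 1) := by
      have h1 := Subgroup.card_eq_card_quotient_mul_card_subgroup Z
      rw [hX, hZcard] at h1
      have h2 : p ^ n = p ^ (n - 1) * p := by
        rw [← pow_succ]; congr 1; omega
      rw [h2] at h1
      exact (Nat.eq_of_mul_eq_mul_right hpp.pos h1).symm
    have hmemN : ∀ g : X, g ∈ N ↔ ⁅g, a₀⁆ ∈ Z := by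
      intro g
      rw [hN, Subgroup.mem_comap, hNb, Subgroup.mem_centralizer_iff]
      have hk : ⁅g, a₀⁆ ∈ Z ↔ π ⁅g, a₀⁆ = 1 := by rw [← MonoidHom.mem_ker, hkerπ]
      rw [hk, map_commutatorElement, commutatorElement_eq_one_iff_commute]
      constructor
      · intro h
        exact (h _ rfl).symm
      · intro h x hx
        rw [Set.mem_singleton_iff.mp hx]
        exact h.eq.symm
    have hAN : A ≤ N := by
      intro a ha
      rw [hmemN]
      have : ⁅a, a₀⁆ = 1 := by
        rw [commutatorElement_eq_one_iff_commute]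
        exact hAcomm a ha a₀ ha₀A
      rw [this]
      exact Z.one_mem
    -- `[N : A] ≤ p`
    have hrel : A.relIndex N ≤ p := by
      have h1 := index_le_card_of_fiber (A.subgroupOf N)
        (fun g : N => (⟨⁅(g : X), a₀⁆, (hmemN g).mp g.2⟩ : Z)) (by
          intro g h hgh
          rw [Subgroup.mem_subgroupOf]
          apply hCa₀
          have h2 : ⁅(g : X), a₀⁆ = ⁅(h : X), a₀⁆ := congrArg Subtype.val hgh
          rw [commutatorElement_def, commutatorElement_def] at h2
          have h3 : (g : X) * a₀ * (g : X)⁻¹ = (h : X) * a₀ * (h : X)⁻¹ := by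
            have := congrArg (· * a₀) h2
            simpa [mul_assoc] using this
          show ((g : X)⁻¹ * (h : X)) * a₀ = a₀ * ((g : X)⁻¹ * (h : X))
          have h4 : a₀ = (g : X)⁻¹ * ((h : X) * a₀ * (h : X)⁻¹) * (g : X) := by
            rw [← h3]; group
          calc ((g : X)⁻¹ * (h : X)) * a₀ = ((g : X)⁻¹ * ((h : X) * a₀ * (h : X)⁻¹) * (g : X)) * ((g : X)⁻¹ * (h : X)) := by group
            _ = a₀ * ((g : X)⁻¹ * (h : X)) := by rw [← h4])
      rw [hZcard] at h1
      exact h1
    have hNcard_le : Nat.card N ≤ p ^ 3 := by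
      have h1 := Subgroup.relIndex_mul_relIndex ⊥ A N bot_le hAN
      rw [Subgroup.relIndex_bot_left, Subgroup.relIndex_bot_left, hA] at h1
      rw [← h1]
      calc p ^ 2 * A.relIndex N ≤ p ^ 2 * p := Nat.mul_le_mul_left _ hrel
        _ = p ^ 3 := by ring
    have hNcard : Nat.card N = Nat.card Nb * p := by
      have h1 : N.index = Nb.index := Subgroup.index_comap_of_surjective Nb hπsurj
      have h2 := Subgroup.card_mul_index N
      have h3 := Subgroup.card_mul_index Nb
      have h4 := Subgroup.card_eq_card_quotient_mul_card_subgroup Z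
      rw [hZcard] at h4
      have h5 : Nb.index ≠ 0 := Subgroup.index_ne_zero_of_finite
      have h6 : Nat.card N * Nb.index = Nat.card Nb * p * Nb.index := by
        rw [← h1, h2, h4, ← h3, h1]; ring
      exact Nat.eq_of_mul_eq_mul_right (Nat.pos_of_ne_zero h5) h6
    have hNb_le : Nat.card Nb ≤ p ^ 2 := by
      rw [hNcard] at hNcard_le
      have h1 : p ^ 3 = p ^ 2 * p := by ring
      rw [h1] at hNcard_le
      exact Nat.le_of_mul_le_mul_right hNcard_le hpp.pos
    have hPGQ : IsPGroup p (X ⧸ Z) := IsPGroup.of_card hcardQ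
    haveI : Nontrivial (X ⧸ Z) := by
      apply Finite.one_lt_card_iff_nontrivial.mp
      rw [hcardQ]
      exact Nat.one_lt_pow (by omega) hpp.one_lt
    have ha₀Nb : π a₀ ∈ Nb := by
      rw [hNb, Subgroup.mem_centralizer_iff]
      intro x hx
      rw [Set.mem_singleton_iff.mp hx]
    have hπa₀ : π a₀ ≠ 1 := by
      intro h
      apply ha₀Z
      rw [← hkerπ, MonoidHom.mem_ker]
      exact h
    have hNb_card : Nat.card Nb = p ^ 2 := by
      have h1 : Nat.card Nb ∣ p ^ (n - 1) := hcardQ ▸ Subgroup.card_subgroup_dvd_card Nb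
      obtain ⟨k, hk, hkN⟩ := (Nat.dvd_prime_pow hpp).mp h1
      have hk2 : k ≤ 2 := by
        rw [hkN] at hNb_le
        exact (Nat.pow_le_pow_iff_right hpp.one_lt).mp hNb_le
      have hcen : Subgroup.center (X ⧸ Z) ≤ Nb := Subgroup.center_le_centralizer _
      have hcnt : Nontrivial (Subgroup.center (X ⧸ Z)) := hPGQ.center_nontrivial
      have h2 : Nat.card (Subgroup.center (X ⧸ Z)) ∣ p ^ k := hkN ▸ Subgroup.card_dvd_of_le hcen
      obtain ⟨j, hj, hjc⟩ := (Nat.dvd_prime_pow hpp).mp h2
      have hj0 : j ≠ 0 := by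
        rintro rfl
        rw [pow_zero] at hjc
        have := Finite.one_lt_card_iff_nontrivial.mpr hcnt
        omega
      by_cases hk2' : k = 2
      · rw [hkN, hk2']
      · exfalso
        have hjk : j = k := by omega
        have heq : Subgroup.center (X ⧸ Z) = Nb :=
          Subgroup.eq_of_le_of_card_ge hcen (by rw [hkN, hjc, hjk])
        have htop : Nb = ⊤ := by
          rw [eq_top_iff]
          intro x _
          rw [hNb, Subgroup.mem_centralizer_iff]
          intro y hy
          rw [Set.mem_singleton_iff.mp hy]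
          have : π a₀ ∈ Subgroup.center (X ⧸ Z) := heq ▸ ha₀Nb
          exact (Subgroup.mem_center_iff.mp this x).symm
        have h3 : Nat.card Nb = Nat.card (X ⧸ Z) := by rw [htop, Subgroup.card_top]
        rw [hkN, hcardQ] at h3
        have := Nat.pow_right_injective hpp.two_le h3
        omega
    have hNbC : Subgroup.centralizer (Nb : Set (X ⧸ Z)) = Nb := by
      apply le_antisymm
      · rw [hNb]
        apply Subgroup.centralizer_le
        rw [Set.singleton_subset_iff]
        exact ha₀Nb
      · have hc : IsMulCommutative Nb := IsPGroup.isMulCommutative_of_card_eq_prime_sq hNb_card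
        intro x hx
        rw [Subgroup.mem_centralizer_iff]
        intro y hy
        have := hc.is_comm.comm ⟨y, hy⟩ ⟨x, hx⟩
        exact congrArg Subtype.val this
    have := ih (n - 1) (by omega) (X ⧸ Z) hcardQ Nb hNb_card hNbC
    rw [this]
    omega

end Cfsg.Agent.Helper24
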