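import Mathlib
import Cfsg.Agent.Helper24.MaxClass
import Cfsg.Agent.Helper24.ExtraCent

set_option autoImplicit false

namespace Cfsg.Agent.Helper24

open scoped commutatorElement

/-- A finite group of order `p ^ k` with `k ≤ 2` is commutative. -/
theorem comm_of_card_prime_pow_le_two {H : Type*} [Group H] [Finite H] {p : ℕ} [Fact p.Prime]
    (k : ℕ) (hk : k ≤ 2) (hH : Nat.card H = p ^ k) (a b : H) : a * b = b * a := by
  have hpp : p.Prime := Fact.out
  interval_cases k
  · rw [pow_zero] at hH
    haveI : Subsingleton H := (Nat.card_eq_one_iff_unique.mp hH).1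
    exact Subsingleton.elim _ _
  · rw [pow_one] at hH
    haveI : IsCyclic H := isCyclic_of_prime_card hH
    exact (IsCyclic.commGroup).mul_comm a b
  · have := IsPGroup.isMulCommutative_of_card_eq_prime_sq hH
    exact this.is_comm.comm a b

/-- Two non-commuting elements of a group of order `p ^ 3` generate it. -/
theorem closure_pair_eq_top_of_card_cube {B : Type*} [Group B] [Finite B] {p : ℕ}
    [Fact p.Prime] (hB : Nat.card B = p ^ 3) (b₁ b₂ : B) (hne : b₁ * b₂ ≠ b₂ * b₁) :
    Subgroup.closure {b₁, b₂} = (⊤ : Subgroup B) := by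
  have hpp : p.Prime := Fact.out
  obtain ⟨H, hH⟩ : ∃ H : Subgroup B, H = Subgroup.closure {b₁, b₂} := ⟨_, rfl⟩
  rw [← hH]
  have hdvd : Nat.card H ∣ p ^ 3 := hB ▸ Subgroup.card_subgroup_dvd_card H
  obtain ⟨k, hk, hkH⟩ := (Nat.dvd_prime_pow hpp).mp hdvd
  have h1 : b₁ ∈ H := hH ▸ Subgroup.subset_closure (by simp)
  have h2 : b₂ ∈ H := hH ▸ Subgroup.subset_closure (by simp)
  have hk3 : k = 3 := by
    by_contra hk3
    have hk2 : k ≤ 2 := by omega
    have := comm_of_card_prime_pow_le_two k hk2 hkH ⟨b₁, h1⟩ ⟨b₂, h2⟩
    exact hne (congrArg Subtype.val this)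
  apply Subgroup.eq_top_of_card_eq
  rw [hkH, hk3, hB]

/-- The centre of a non-abelian group of order `p ^ 3` has order `p`. -/
theorem card_center_of_card_cube {B : Type*} [Group B] [Finite B] {p : ℕ} [Fact p.Prime]
    (hB : Nat.card B = p ^ 3) (hna : ¬ IsMulCommutative B) :
    Nat.card (Subgroup.center B) = p := by
  have hpp : p.Prime := Fact.out
  have hBp : IsPGroup p B := IsPGroup.of_card hB
  haveI : Nontrivial B := by
    apply (Finite.one_lt_card_iff_nontrivial).mp
    rw [hB]
    exact Nat.one_lt_pow (by norm_num) hpp.one_lt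
  haveI := hBp.center_nontrivial
  have hdvd : Nat.card (Subgroup.center B) ∣ p ^ 3 := hB ▸ Subgroup.card_subgroup_dvd_card _
  obtain ⟨k, hk, hkZ⟩ := (Nat.dvd_prime_pow hpp).mp hdvd
  have hk0 : k ≠ 0 := by
    rintro rfl
    rw [pow_zero] at hkZ
    have := Finite.one_lt_card_iff_nontrivial.mpr
      (inferInstance : Nontrivial (Subgroup.center B))
    omega
  have hk1 : k = 1 := by
    by_contra hk1
    have hk2 : 2 ≤ k := by omega
    apply hna
    have hq : Nat.card (B ⧸ Subgroup.center B) = p ^ (3 - k) := by
      have h := Subgroup.card_eq_card_quotient_mul_card_subgroup (Subgroup.center B)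
      rw [hB, hkZ] at h
      have h' : p ^ 3 = p ^ (3 - k) * p ^ k := by
        rw [← pow_add]; congr 1; omega
      rw [h'] at h
      exact (Nat.eq_of_mul_eq_mul_right (pow_pos hpp.pos k) h).symm
    haveI : IsCyclic (B ⧸ Subgroup.center B) := by
      have h3 : 3 - k = 0 ∨ 3 - k = 1 := by omega
      rcases h3 with h3 | h3
      · rw [h3, pow_zero] at hq
        haveI : Subsingleton (B ⧸ Subgroup.center B) := (Nat.card_eq_one_iff_unique.mp hq).1
        infer_instance
      · rw [h3, pow_one] at hq
        exact isCyclic_of_prime_card hq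
    exact isMulCommutative_of_isCyclic_quotient_center_self B
  rw [hkZ, hk1, pow_one]

/-- A finite `p`-group of order `p ^ n` containing a non-abelian subgroup `B` of order `p ^ 3`
with `C_X(B) ≤ B` has maximal class. -/
theorem nilpotencyClass_of_self_centralizing_cube {X : Type*} [Group X] [Finite X] {p : ℕ}
    [Fact p.Prime] (n : ℕ) (hX : Nat.card X = p ^ n) (B : Subgroup X) (hB : Nat.card B = p ^ 3)
    (hBna : ¬ IsMulCommutative B) (hC : Subgroup.centralizer (B : Set X) ≤ B) :
    Group.nilpotencyClass X = n - 1 := by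
  have hpp : p.Prime := Fact.out
  have hXp : IsPGroup p X := IsPGroup.of_card hX
  haveI : Group.IsNilpotent X := hXp.isNilpotent
  have hn3 : 3 ≤ n := by
    have hdvd : p ^ 3 ∣ p ^ n := by
      rw [← hB, ← hX]; exact Subgroup.card_subgroup_dvd_card B
    exact (Nat.pow_dvd_pow_iff_le_right hpp.one_lt).mp hdvd
  haveI : Nontrivial X := by
    apply (Finite.one_lt_card_iff_nontrivial).mp
    rw [hX]
    exact Nat.one_lt_pow (by omega) hpp.one_lt
  obtain ⟨b₁, b₂, hb12⟩ : ∃ b₁ b₂ : B, b₁ * b₂ ≠ b₂ * b₁ := by
    by_contra h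
    push Not at h
    exact hBna ⟨⟨h⟩⟩
  have hgen := closure_pair_eq_top_of_card_cube hB b₁ b₂ hb12
  have hcentB : Nat.card (Subgroup.centralizer (B : Set X)) = p := by
    have h1 := card_center_of_card_cube hB hBna
    rw [← h1]
    apply Nat.card_congr
    exact
      { toFun := fun c => ⟨⟨c.1, hC c.2⟩, by
          rw [Subgroup.mem_center_iff]
          intro b
          apply Subtype.ext
          exact c.2 b.1 b.2⟩
        invFun := fun z => ⟨z.1.1, by
          intro b hb
          have := (Subgroup.mem_center_iff.mp z.2) ⟨b, hb⟩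
          exact congrArg Subtype.val this⟩
        left_inv := fun c => rfl
        right_inv := fun z => rfl }
  haveI := hXp.center_nontrivial
  have hZle : Subgroup.center X ≤ Subgroup.centralizer (B : Set X) :=
    Subgroup.center_le_centralizer _
  have hZcard : Nat.card (Subgroup.center X) = p := by
    have hd : Nat.card (Subgroup.center X) ∣ p := hcentB ▸ Subgroup.card_dvd_of_le hZle
    rcases (Nat.dvd_prime hpp).mp hd with h | h
    · have := Finite.one_lt_card_iff_nontrivial.mpr
        (inferInstance : Nontrivial (Subgroup.center X))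
      omega
    · exact h
  have hZeq : Subgroup.center X = Subgroup.centralizer (B : Set X) :=
    Subgroup.eq_of_le_of_card_ge hZle (by rw [hcentB, hZcard])
  have hZB : Subgroup.center X ≤ B := hZle.trans hC
  obtain ⟨A, hAdef⟩ : ∃ A : Subgroup (X ⧸ Subgroup.center X),
      A = B.map (QuotientGroup.mk' (Subgroup.center X)) := ⟨_, rfl⟩
  have hpn : p ^ n = p ^ (n - 1) * p := by
    rw [← pow_succ]; congr 1; omega
  have hQcard : Nat.card (X ⧸ Subgroup.center X) = p ^ (n - 1) := by
    have h := Subgroup.card_eq_card_quotient_mul_card_subgroup (Subgroup.center X)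
    rw [hX, hZcard, hpn] at h
    exact (Nat.eq_of_mul_eq_mul_right hpp.pos h).symm
  have hcomap : A.comap (QuotientGroup.mk' (Subgroup.center X)) = B := by
    rw [hAdef, QuotientGroup.comap_map_mk']
    exact sup_eq_right.mpr hZB
  have hAcard : Nat.card A = p ^ 2 := by
    have hidx : A.index = B.index := by
      rw [← hcomap, Subgroup.index_comap_of_surjective _ (QuotientGroup.mk'_surjective _)]
    have h1 := Subgroup.card_mul_index A
    have h2 := Subgroup.card_mul_index B
    rw [hidx, hQcard] at h1
    rw [hB, hX] at h2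
    have h4 : p ^ 3 * B.index = (Nat.card A * p) * B.index := by
      rw [h2, hpn, ← h1]; ring
    have hpos : 0 < B.index := Nat.pos_of_ne_zero Subgroup.index_ne_zero_of_finite
    have h5 := Nat.eq_of_mul_eq_mul_right hpos h4
    have h6 : p ^ 2 * p = Nat.card A * p := by rw [← h5]; ring
    exact (Nat.eq_of_mul_eq_mul_right hpp.pos h6).symm
  have hAcomm : ∀ a ∈ A, ∀ b ∈ A, a * b = b * a := by
    intro a ha b hb
    have := IsPGroup.isMulCommutative_of_card_eq_prime_sq hAcard
    exact congrArg Subtype.val (this.is_comm.comm ⟨a, ha⟩ ⟨b, hb⟩)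
  have hcent : Subgroup.centralizer (A : Set (X ⧸ Subgroup.center X)) = A := by
    apply le_antisymm
    · obtain ⟨D, hD⟩ : ∃ D : Subgroup X,
          D = (Subgroup.centralizer (A : Set (X ⧸ Subgroup.center X))).comap
            (QuotientGroup.mk' (Subgroup.center X)) := ⟨_, rfl⟩
      have hDmem : ∀ x ∈ D, ∀ b ∈ B, ⁅x, b⁆ ∈ Subgroup.center X := by
        intro x hx b hb
        rw [hD, Subgroup.mem_comap, Subgroup.mem_centralizer_iff] at hx
        have h1 := hx (QuotientGroup.mk' _ b) (hAdef ▸ Subgroup.mem_map_of_mem _ hb)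
        rw [← QuotientGroup.eq_one_iff, commutatorElement_def]
        have h2 : ((x * b * x⁻¹ * b⁻¹ : X) : X ⧸ Subgroup.center X) =
            (QuotientGroup.mk' _ x) * (QuotientGroup.mk' _ b) * (QuotientGroup.mk' _ x)⁻¹ *
              (QuotientGroup.mk' _ b)⁻¹ := by simp
        rw [h2, ← h1]; group
      have hBD : B ≤ D := by
        intro b hb
        rw [hD, Subgroup.mem_comap, Subgroup.mem_centralizer_iff]
        intro a ha
        exact hAcomm a ha _ (hAdef ▸ Subgroup.mem_map_of_mem _ hb)
      have hZD : Subgroup.center X ≤ D := hZB.trans hBD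
      have hDcard : Nat.card D ≤ p ^ 3 := by
        let f : D → (Subgroup.center X) × (Subgroup.center X) := fun x =>
          (⟨⁅(x : X), (b₁ : X)⁆, hDmem x x.2 b₁ b₁.2⟩, ⟨⁅(x : X), (b₂ : X)⁆, hDmem x x.2 b₂ b₂.2⟩)
        have hfib : ∀ a b : D, f a = f b → a⁻¹ * b ∈ (Subgroup.center X).subgroupOf D := by
          intro a b hab
          rw [Subgroup.mem_subgroupOf, hZeq]
          have e1 : ⁅(a : X), (b₁ : X)⁆ = ⁅(b : X), (b₁ : X)⁆ :=
            congrArg (fun t => (t.1 : X)) hab
          have e2 : ⁅(a : X), (b₂ : X)⁆ = ⁅(b : X), (b₂ : X)⁆ :=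
            congrArg (fun t => (t.2 : X)) hab
          have hcomm : ∀ y : X, ⁅(a : X), y⁆ = ⁅(b : X), y⁆ →
              y * ((a : X)⁻¹ * (b : X)) = ((a : X)⁻¹ * (b : X)) * y := by
            intro y e
            rw [commutatorElement_def, commutatorElement_def] at e
            have e' : (a : X) * y * (a : X)⁻¹ = (b : X) * y * (b : X)⁻¹ := mul_right_cancel e
            calc y * ((a : X)⁻¹ * (b : X)) = (a : X)⁻¹ * ((a : X) * y * (a : X)⁻¹) * b := by
                  group
              _ = (a : X)⁻¹ * ((b : X) * y * (b : X)⁻¹) * b := by rw [e']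
              _ = ((a : X)⁻¹ * (b : X)) * y := by group
          have hc1 := hcomm _ e1
          have hc2 := hcomm _ e2
          have hK : ∀ h : B, (h : X) * ((a : X)⁻¹ * (b : X)) = ((a : X)⁻¹ * (b : X)) * (h : X) := by
            intro h
            have hh : h ∈ Subgroup.closure {b₁, b₂} := hgen ▸ Subgroup.mem_top h
            induction hh using Subgroup.closure_induction with
            | mem y hy =>
              rcases hy with rfl | rfl
              · exact hc1
              · exact hc2
            | one => simp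
            | mul y z _ _ ihy ihz =>
              rw [Subgroup.coe_mul, mul_assoc, ihz, ← mul_assoc, ihy, mul_assoc]
            | inv y _ ihy =>
              rw [Subgroup.coe_inv]
              have h3 : ((y : X))⁻¹ * ((a : X)⁻¹ * (b : X)) =
                  ((y : X))⁻¹ * (((a : X)⁻¹ * (b : X)) * (y : X)) * (y : X)⁻¹ := by group
              rw [h3, ← ihy]; group
          show ((a⁻¹ * b : D) : X) ∈ Subgroup.centralizer (B : Set X)
          rw [Subgroup.mem_centralizer_iff]
          intro h hh
          simpa using hK ⟨h, hh⟩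
        have hidx := index_le_card_of_fiber ((Subgroup.center X).subgroupOf D) f hfib
        have hcardZD : Nat.card ((Subgroup.center X).subgroupOf D) = p := by
          rw [← hZcard]
          exact Nat.card_congr (Subgroup.subgroupOfEquivOfLe hZD).toEquiv
        have h1 := Subgroup.card_mul_index ((Subgroup.center X).subgroupOf D)
        rw [hcardZD] at h1
        rw [← h1]
        have h2 : Nat.card ((Subgroup.center X) × (Subgroup.center X)) = p * p := by
          rw [Nat.card_prod, hZcard]
        calc p * ((Subgroup.center X).subgroupOf D).index ≤ p * (p * p) :=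
              Nat.mul_le_mul_left _ (h2 ▸ hidx)
          _ = p ^ 3 := by ring
      have hDB : D = B := (Subgroup.eq_of_le_of_card_ge hBD (by rw [hB]; exact hDcard)).symm
      intro q hq
      obtain ⟨x, rfl⟩ := QuotientGroup.mk'_surjective (Subgroup.center X) q
      have hxD : x ∈ D := by rw [hD]; exact hq
      rw [hDB] at hxD
      rw [hAdef]
      exact Subgroup.mem_map_of_mem _ hxD
    · intro a ha
      rw [Subgroup.mem_centralizer_iff]
      intro b hb
      exact hAcomm b hb a ha
  have hcl := nilpotencyClass_of_self_centralizing_sq (p := p) (n - 1)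
    (X ⧸ Subgroup.center X) hQcard A hAcard hcent
  rw [Group.nilpotencyClass_eq_quotient_center_plus_one, hcl]
  omega

end Cfsg.Agent.Helper24
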