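import Mathlib
import Cfsg.Agent.Lead.NilNum

set_option autoImplicit false

namespace Cfsg.Agent.Helper24

open Cfsg.Agent

theorem nab_odd (a : ℕ) :
    (2 * a + 1).factorial.factorization 2 = (2 * a).factorial.factorization 2 := by
  rw [Nat.factorial_succ, Nat.factorization_mul (by omega) (Nat.factorial_ne_zero _)]
  have h0 : (2 * a + 1).factorization 2 = 0 :=
    Nat.factorization_eq_zero_of_not_dvd (by omega)
  simp [h0]

theorem nab_pair (a b : ℕ) :
    (2 * a + 1).factorial.factorization 2 + (2 * b + 1).factorial.factorization 2 + 1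
      ≤ ((2 * a + 1) + (2 * b + 1)).factorial.factorization 2 := by
  rw [nab_odd, nab_odd]
  have h1 := Lead.nn_v_add (2 * a) (2 * b)
  have h2 := Lead.nn_v2 (2 * a + 2 * b)
  rw [show 2 * a + 1 + (2 * b + 1) = 2 * a + 2 * b + 2 by ring]
  omega

theorem nab_three (x : ℕ) (hx : Odd x) :
    x.factorial.factorization 2 + 3 ≤ (x + 3).factorial.factorization 2 := by
  have h8 : (8 : ℕ).factorization 2 + x.factorial.factorization 2
      ≤ (x + 3).factorial.factorization 2 := by
    apply Lead.nn_v_of_dvd 8 x 3 (by norm_num)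
    rw [Lead.nn_fact3]
    apply Nat.mul_dvd_mul_right
    obtain ⟨j, rfl⟩ := hx
    rcases Nat.even_or_odd j with ⟨i, rfl⟩ | ⟨i, rfl⟩
    · exact ⟨(2 * i + 1) * (4 * i + 3) * (i + 1), by ring⟩
    · exact ⟨(i + 1) * (4 * i + 5) * (2 * i + 3), by ring⟩
  rw [Lead.nn_fz8] at h8
  omega

theorem nab_nine : 54 ≤ 2 ^ ((9 : ℕ).factorial.factorization 2) := by
  have h7 : 7 ≤ (9 : ℕ).factorial.factorization 2 := by
    rw [← Nat.Prime.pow_dvd_iff_le_factorization Nat.prime_two (Nat.factorial_ne_zero 9)]
    decide
  calc 54 ≤ 2 ^ 7 := by norm_num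
    _ ≤ 2 ^ ((9 : ℕ).factorial.factorization 2) := Nat.pow_le_pow_right (by norm_num) h7

theorem nil_prod_odd_le (c : ℕ → ℕ)
    (hc : ∀ m, 0 < m → m ≠ 3 → c m ≤ 2 ^ (m.factorial.factorization 2)) (hc3 : c 3 = 3)
    (hc2 : ∀ m, Odd m → m ≠ 1 → m ≠ 3 → m ≠ 5 → m ≠ 9 →
      2 * c m ≤ 2 ^ (m.factorial.factorization 2))
    (l : Multiset ℕ) (hodd : ∀ m ∈ l, Odd m) (h : l.sum % 4 ≠ 3) (h5 : l.sum ≠ 5)
    (h6 : l.sum ≠ 6) (h9 : l.sum ≠ 9) (h2 : 2 ≤ l.sum) :
    2 * (l.map c).prod ≤ 2 ^ (l.sum.factorial.factorization 2) := by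
  by_cases hall : ∀ m ∈ l, m = 3
  · have hl : l = Multiset.replicate (Multiset.card l) 3 := Multiset.eq_replicate_card.mpr hall
    obtain ⟨b, hb⟩ : ∃ b, b = Multiset.card l := ⟨_, rfl⟩
    rw [← hb] at hl
    have hsum : l.sum = 3 * b := by
      rw [hl, Multiset.sum_replicate, smul_eq_mul, mul_comm]
    have hb3 : 3 ≤ b := by
      rw [hsum] at h h6 h2
      by_contra hcon
      have hb' : b = 0 ∨ b = 1 ∨ b = 2 := by omega
      rcases hb' with rfl | rfl | rfl <;> omega
    obtain ⟨k, rfl⟩ : ∃ k, b = k + 3 := ⟨b - 3, by omega⟩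
    obtain ⟨c', hc'⟩ : ∃ c' : ℕ → ℕ, c' = fun m => if m = 9 then 54 else c m := ⟨_, rfl⟩
    have e9 : c' 9 = 54 := by rw [hc']; simp
    have e3 : c' 3 = 3 := by rw [hc']; simp [hc3]
    have hcc : ∀ m, 0 < m → m ≠ 3 → c' m ≤ 2 ^ (m.factorial.factorization 2) := by
      intro m hm hm3
      by_cases h9' : m = 9
      · rw [h9', e9]; exact nab_nine
      · have : c' m = c m := by rw [hc']; simp [h9']
        rw [this]; exact hc m hm hm3
    have key := Lead.nil_prod_le_of c' hcc e3 (9 ::ₘ Multiset.replicate k 3) (by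
        intro m hm
        rcases Multiset.mem_cons.mp hm with rfl | hm
        · norm_num
        · rw [Multiset.eq_of_mem_replicate hm]; norm_num) (by
        rw [Multiset.sum_cons, Multiset.sum_replicate, smul_eq_mul]
        rw [hsum] at h
        omega)
    rw [Multiset.map_cons, Multiset.prod_cons, Multiset.map_replicate, Multiset.prod_replicate,
      Multiset.sum_cons, Multiset.sum_replicate, smul_eq_mul, e9, e3] at key
    rw [hl, Multiset.map_replicate, Multiset.prod_replicate, hc3, Multiset.sum_replicate,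
      smul_eq_mul]
    have e : 2 * 3 ^ (k + 3) = 54 * 3 ^ k := by ring
    have e' : (k + 3) * 3 = 9 + k * 3 := by ring
    rw [e, e']
    exact key
  · push_neg at hall
    obtain ⟨x, hxl, hx3⟩ := hall
    obtain ⟨t, rfl⟩ := Multiset.exists_cons_of_mem hxl
    have hxodd : Odd x := hodd x (Multiset.mem_cons_self x t)
    by_cases ht : t = 0
    · subst ht
      simp only [Multiset.cons_zero, Multiset.sum_singleton, Multiset.map_singleton,
        Multiset.prod_singleton] at h h5 h9 h2 ⊢
      exact hc2 x hxodd (by omega) hx3 h5 h9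
    · obtain ⟨y, hyt⟩ := Multiset.exists_mem_of_ne_zero ht
      obtain ⟨r, rfl⟩ := Multiset.exists_cons_of_mem hyt
      have hyodd : Odd y := hodd y (Multiset.mem_cons_of_mem (Multiset.mem_cons_self y r))
      have hrodd : ∀ m ∈ r, Odd m := fun m hm =>
        hodd m (Multiset.mem_cons_of_mem (Multiset.mem_cons_of_mem hm))
      have hxpos : 0 < x := hxodd.pos
      have hypos : 0 < y := hyodd.pos
      have hxy : 2 * c x * c y ≤ 2 ^ ((x + y).factorial.factorization 2) := by
        by_cases hy3 : y = 3
        · subst hy3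
          rw [hc3]
          have h1 := hc x hxpos hx3
          have h8 := nab_three x hxodd
          calc 2 * c x * 3 = 6 * c x := by ring
            _ ≤ 8 * 2 ^ (x.factorial.factorization 2) := by nlinarith
            _ = 2 ^ (x.factorial.factorization 2 + 3) := by rw [pow_add]; norm_num; ring
            _ ≤ 2 ^ ((x + 3).factorial.factorization 2) := Nat.pow_le_pow_right (by norm_num) h8
        · have h1 := hc x hxpos hx3
          have h2' := hc y hypos hy3
          obtain ⟨a, rfl⟩ := hxodd
          obtain ⟨b, rfl⟩ := hyodd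
          have h3 := nab_pair a b
          calc 2 * c (2 * a + 1) * c (2 * b + 1)
              ≤ 2 * 2 ^ ((2 * a + 1).factorial.factorization 2)
                  * 2 ^ ((2 * b + 1).factorial.factorization 2) :=
                Nat.mul_le_mul (Nat.mul_le_mul_left 2 h1) h2'
            _ = 2 ^ ((2 * a + 1).factorial.factorization 2
                  + (2 * b + 1).factorial.factorization 2 + 1) := by
                rw [pow_add, pow_add]; ring
            _ ≤ 2 ^ ((2 * a + 1 + (2 * b + 1)).factorial.factorization 2) :=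
                Nat.pow_le_pow_right (by norm_num) h3
      obtain ⟨c', hc'⟩ : ∃ c' : ℕ → ℕ,
          c' = fun m => if m = x + y then 2 * c x * c y else c m := ⟨_, rfl⟩
      have hxyeven : Even (x + y) := hxodd.add_odd hyodd
      have hne3 : (3 : ℕ) ≠ x + y := by
        intro h3
        rw [← h3] at hxyeven
        exact absurd hxyeven (by decide)
      have e1 : c' (x + y) = 2 * c x * c y := by rw [hc']; simp
      have e3 : c' 3 = 3 := by rw [hc']; simp [hne3, hc3]
      have hcc : ∀ m, 0 < m → m ≠ 3 → c' m ≤ 2 ^ (m.factorial.factorization 2) := by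
        intro m hm hm3
        by_cases hmxy : m = x + y
        · rw [hmxy, e1]; exact hxy
        · have : c' m = c m := by rw [hc']; simp [hmxy]
          rw [this]; exact hc m hm hm3
      have key := Lead.nil_prod_le_of c' hcc e3 ((x + y) ::ₘ r) (by
          intro m hm
          rcases Multiset.mem_cons.mp hm with rfl | hm
          · omega
          · exact (hrodd m hm).pos) (by
          rw [Multiset.sum_cons]
          simp only [Multiset.sum_cons] at h
          omega)
      have hr : (r.map c').prod = (r.map c).prod := by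
        congr 1
        apply Multiset.map_congr rfl
        intro m hm
        have hmne : m ≠ x + y := by
          intro e
          have hmo := hrodd m hm
          rw [e] at hmo
          exact (Nat.not_even_iff_odd.mpr hmo) hxyeven
        rw [hc']; simp [hmne]
      rw [Multiset.map_cons, Multiset.prod_cons, hr, Multiset.sum_cons, e1] at key
      simp only [Multiset.map_cons, Multiset.prod_cons, Multiset.sum_cons]
      have e2 : 2 * (c x * (c y * (r.map c).prod)) = 2 * c x * c y * (r.map c).prod := by ring
      have e4 : x + (y + r.sum) = x + y + r.sum := by ring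
      rw [e2, e4]
      exact key

end Cfsg.Agent.Helper24
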