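import Mathlib
import Cfsg.Prelude.Def_Solvable
import Cfsg.Prelude.Def_CaseTheorems
import Cfsg.Agent.Helper20.HHDual
import Cfsg.Agent.Helper23.Pronormal

set_option autoImplicit false

namespace Cfsg.Agent.Helper24

open scoped commutatorElement

/-- In a finite group in which all commutators are central, every Sylow subgroup is normal. -/
theorem sylow_normal_of_class_two {H : Type*} [Group H] [Finite H] (r : ℕ) [Fact r.Prime]
    (hcl : ∀ a b c : H, (a * b * a⁻¹ * b⁻¹) * c = c * (a * b * a⁻¹ * b⁻¹)) (R : Sylow r H) :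
    (R : Subgroup H).Normal := by
  refine ⟨fun u hu g => ?_⟩
  set c := g * u * g⁻¹ * u⁻¹ with hc
  have hcu : g * u * g⁻¹ = c * u := by rw [hc]; group
  have hcomm : Commute c u := hcl g u u
  obtain ⟨k, hk⟩ := R.isPGroup' ⟨u, hu⟩
  have huk : u ^ r ^ k = 1 := by
    have := congrArg Subtype.val hk
    simpa using this
  have hck : c ^ r ^ k = 1 := by
    have h1 : (c * u) ^ r ^ k = 1 := by
      rw [← hcu, conj_pow, huk]; group
    rw [hcomm.mul_pow, huk, mul_one] at h1
    exact h1
  have hcn : (Subgroup.zpowers c).Normal := by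
    refine ⟨fun w hw g' => ?_⟩
    obtain ⟨z, rfl⟩ := Subgroup.mem_zpowers_iff.1 hw
    have hcg : Commute c g' := hcl g u g'
    have h2 : g' * c ^ z * g'⁻¹ = c ^ z := by
      rw [← (hcg.zpow_left z).eq]; group
    rw [h2]; exact Subgroup.zpow_mem_zpowers c z
  have hcp : IsPGroup r (Subgroup.zpowers c) := by
    rintro ⟨w, hw⟩
    obtain ⟨z, rfl⟩ := Subgroup.mem_zpowers_iff.1 hw
    refine ⟨k, Subtype.ext ?_⟩
    show (c ^ z) ^ r ^ k = 1
    rw [← zpow_natCast, ← zpow_mul, mul_comm, zpow_mul, zpow_natCast, hck, one_zpow]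
  have hsup : IsPGroup r ↥((R : Subgroup H) ⊔ Subgroup.zpowers c) :=
    IsPGroup.to_sup_of_normal_right R.isPGroup' hcp
  have heq := R.is_maximal' hsup le_sup_left
  have hcR : c ∈ (R : Subgroup H) := by
    rw [← heq]; exact Subgroup.mem_sup_right (Subgroup.mem_zpowers c)
  rw [hcu]
  exact mul_mem hcR hu

/-- A normal subgroup `D ≤ M` in which all commutators are central is centralized by `M`, provided
`M` centralizes every normal subgroup of prime power order. -/
theorem cent_of_class_two {Γ : Type*} [Group Γ] [Finite Γ]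
    (M D : Subgroup Γ) [hDn : D.Normal]
    (hA : ∀ (q : ℕ) [Fact q.Prime] (A : Subgroup Γ), A.Normal → IsPGroup q A →
      ∀ m ∈ M, ∀ a ∈ A, m * a = a * m)
    (hcl : ∀ a ∈ D, ∀ b ∈ D, ∀ c ∈ D, (a * b * a⁻¹ * b⁻¹) * c = c * (a * b * a⁻¹ * b⁻¹)) :
    ∀ m ∈ M, ∀ d ∈ D, m * d = d * m := by
  classical
  have hcl' : ∀ a b c : ↥D, (a * b * a⁻¹ * b⁻¹) * c = c * (a * b * a⁻¹ * b⁻¹) := by
    intro a b c
    apply Subtype.ext
    simpa using hcl a a.2 b b.2 c c.2
  set Z : Subgroup ↥D := (Subgroup.centralizer (M : Set Γ)).subgroupOf D with hZ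
  have hsyl : ∀ (r : ℕ) [Fact r.Prime] (R : Sylow r ↥D), (R : Subgroup ↥D) ≤ Z := by
    intro r _ R
    have hRn : (R : Subgroup ↥D).Normal := sylow_normal_of_class_two r hcl' R
    haveI : (R : Subgroup ↥D).Characteristic := Sylow.characteristic_of_normal R hRn
    have hAn : ((R : Subgroup ↥D).map D.subtype).Normal :=
      ConjAct.normal_of_characteristic_of_normal
    have hAp : IsPGroup r ((R : Subgroup ↥D).map D.subtype) := R.isPGroup'.map _
    intro u hu
    rw [hZ, Subgroup.mem_subgroupOf, Subgroup.mem_centralizer_iff]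
    intro m hm
    exact hA r _ hAn hAp m hm u (Subgroup.mem_map_of_mem _ hu)
  have hdvd : Nat.card ↥D ∣ Nat.card Z := by
    have hD0 : Nat.card ↥D ≠ 0 := Nat.card_pos.ne'
    have hZ0 : Nat.card Z ≠ 0 := Nat.card_pos.ne'
    rw [← Nat.factorization_le_iff_dvd hD0 hZ0]
    refine Finsupp.le_def.2 (fun r => ?_)
    by_cases hr : r.Prime
    · haveI : Fact r.Prime := ⟨hr⟩
      obtain R : Sylow r ↥D := default
      have h1 : Nat.card (R : Subgroup ↥D) ∣ Nat.card Z := Subgroup.card_dvd_of_le (hsyl r R)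
      rw [Sylow.card_eq_multiplicity] at h1
      exact (hr.pow_dvd_iff_le_factorization hZ0).1 h1
    · rw [Nat.factorization_eq_zero_of_not_prime _ hr]; exact Nat.zero_le _
  have hZtop : Z = ⊤ := by
    apply Subgroup.eq_top_of_card_eq
    exact Nat.le_antisymm (Subgroup.card_le_card_group Z) (Nat.le_of_dvd Nat.card_pos hdvd)
  intro m hm d hd
  have hmem : (⟨d, hd⟩ : ↥D) ∈ Z := by rw [hZtop]; trivial
  rw [hZ, Subgroup.mem_subgroupOf, Subgroup.mem_centralizer_iff] at hmem
  exact hmem m hm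

/-- A solvable normal subgroup which centralizes every normal subgroup of prime power order is
abelian. -/
theorem comm_of_solvable_of_cent {Γ : Type*} [Group Γ] [Finite Γ]
    (M : Subgroup Γ) [hMn : M.Normal] (hsol : Group.IsSolvable ↥M)
    (hA : ∀ (q : ℕ) [Fact q.Prime] (A : Subgroup Γ), A.Normal → IsPGroup q A →
      ∀ m ∈ M, ∀ a ∈ A, m * a = a * m) :
    ∀ a ∈ M, ∀ b ∈ M, a * b = b * a := by
  classical
  have hDn : ∀ k, ((derivedSeries ↥M k).map M.subtype).Normal := by
    intro k
    haveI := derivedSeries_characteristic ↥M k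
    exact ConjAct.normal_of_characteristic_of_normal
  have hDle : ∀ k, (derivedSeries ↥M k).map M.subtype ≤ M := by
    intro k
    rintro _ ⟨u, _, rfl⟩
    exact u.2
  have hkey : ∀ k, derivedSeries ↥M (k + 2) = ⊥ → derivedSeries ↥M (k + 1) = ⊥ := by
    intro k hk2
    have hab : ∀ a ∈ derivedSeries ↥M (k + 1), ∀ b ∈ derivedSeries ↥M (k + 1),
        a * b * a⁻¹ * b⁻¹ = 1 := by
      intro a ha b hb
      have hmem : ⁅a, b⁆ ∈ derivedSeries ↥M (k + 2) := by
        rw [derivedSeries_succ]; exact Subgroup.commutator_mem_commutator ha hb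
      rw [hk2, Subgroup.mem_bot, commutatorElement_def] at hmem
      exact hmem
    haveI := hDn (k + 1)
    have hc1 : ∀ m ∈ M, ∀ d ∈ (derivedSeries ↥M (k + 1)).map M.subtype, m * d = d * m := by
      apply cent_of_class_two M _ hA
      rintro _ ⟨a, ha, rfl⟩ _ ⟨b, hb, rfl⟩ c _
      have h1 := hab a ha b hb
      have h2 : (M.subtype a) * (M.subtype b) * (M.subtype a)⁻¹ * (M.subtype b)⁻¹ = 1 := by
        have h3 := congrArg M.subtype h1
        simpa using h3
      rw [h2, one_mul, mul_one]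
    haveI := hDn k
    have hc0 : ∀ m ∈ M, ∀ d ∈ (derivedSeries ↥M k).map M.subtype, m * d = d * m := by
      apply cent_of_class_two M _ hA
      rintro _ ⟨a, ha, rfl⟩ _ ⟨b, hb, rfl⟩ c hc
      have hcm : (M.subtype a) * (M.subtype b) * (M.subtype a)⁻¹ * (M.subtype b)⁻¹ ∈
          (derivedSeries ↥M (k + 1)).map M.subtype := by
        refine ⟨⁅a, b⁆, ?_, ?_⟩
        · rw [derivedSeries_succ]; exact Subgroup.commutator_mem_commutator ha hb
        · rw [commutatorElement_def]; simp
      exact (hc1 c (hDle k hc) _ hcm).symm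
    rw [derivedSeries_succ, eq_bot_iff, Subgroup.commutator_le]
    intro a ha b hb
    rw [Subgroup.mem_bot, commutatorElement_def]
    have h1 := hc0 (M.subtype a) a.2 (M.subtype b) (Subgroup.mem_map_of_mem _ hb)
    have h2 : a * b = b * a := Subtype.ext (by simpa using h1)
    rw [h2]; group
  obtain ⟨n, hn⟩ := hsol.solvable
  have hone : derivedSeries ↥M (0 + 1) = ⊥ := by
    have hdesc : ∀ j, derivedSeries ↥M (j + 1) = ⊥ → derivedSeries ↥M (0 + 1) = ⊥ := by
      intro j
      induction j with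
      | zero => exact id
      | succ j ih => intro h; exact ih (hkey j h)
    cases n with
    | zero =>
      rw [derivedSeries_succ, hn]; simp
    | succ n => exact hdesc n hn
  intro a ha b hb
  have hmem : ⁅(⟨a, ha⟩ : ↥M), ⟨b, hb⟩⁆ ∈ derivedSeries ↥M (0 + 1) := by
    rw [derivedSeries_succ]
    exact Subgroup.commutator_mem_commutator (by simp) (by simp)
  rw [hone, Subgroup.mem_bot, commutatorElement_def] at hmem
  have h2 := congrArg Subtype.val hmem
  simp only [Subgroup.coe_mul, Subgroup.coe_inv, Subgroup.coe_one] at h2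
  calc a * b = (a * b * a⁻¹ * b⁻¹) * (b * a) := by group
    _ = b * a := by rw [h2, one_mul]

/-- If the class of `x` has `p`-power size and the normal closure of `x` is solvable, then the
commutator of any two conjugates of `x` lies in `O_p(G)`. -/
theorem comm_mem_pCore_of_solvable_closure {G : Type*} [Group G] [Finite G] (p : ℕ)
    [Fact p.Prime] (x : G)
    (hx : ∃ a : ℕ, (Subgroup.centralizer ({x} : Set G)).index = p ^ a)
    (hsol : Group.IsSolvable ↥(Subgroup.normalClosure ({x} : Set G))) (g h : G) :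
    (g * x * g⁻¹) * (h * x * h⁻¹) * (g * x * g⁻¹)⁻¹ * (h * x * h⁻¹)⁻¹ ∈ Cfsg.pCore p G := by
  classical
  obtain ⟨a, ha⟩ := hx
  set π : G →* G ⧸ Cfsg.pCore p G := QuotientGroup.mk' (Cfsg.pCore p G) with hπ
  have hπs : Function.Surjective π := QuotientGroup.mk'_surjective _
  set N := Subgroup.normalClosure ({x} : Set G) with hN
  set M : Subgroup (G ⧸ Cfsg.pCore p G) := N.map π with hM
  haveI hMn : M.Normal := Subgroup.Normal.map Subgroup.normalClosure_normal π hπs
  have hMsol : Group.IsSolvable ↥M := by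
    haveI := hsol
    exact Group.isSolvable_of_surjective (MonoidHom.subgroupMap_surjective π N)
  have hidx : (Subgroup.centralizer ({π x} : Set (G ⧸ Cfsg.pCore p G))).index ∣ p ^ a := by
    have h1 : (Subgroup.centralizer ({x} : Set G)).map π ≤
        Subgroup.centralizer ({π x} : Set (G ⧸ Cfsg.pCore p G)) := by
      rintro _ ⟨c, hc, rfl⟩
      have hc' : c ∈ Subgroup.centralizer ({x} : Set G) := hc
      rw [Subgroup.mem_centralizer_iff] at hc'
      rw [Subgroup.mem_centralizer_iff]
      intro y hy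
      rw [Set.mem_singleton_iff] at hy
      rw [hy, ← map_mul, ← map_mul, hc' x rfl]
    rw [← ha]
    exact (Subgroup.index_dvd_of_le h1).trans (Subgroup.index_map_dvd _ hπs)
  have hA : ∀ (q : ℕ) [Fact q.Prime] (A : Subgroup (G ⧸ Cfsg.pCore p G)), A.Normal →
      IsPGroup q A → ∀ m ∈ M, ∀ u ∈ A, m * u = u * m := by
    intro q hqf A hAn hAq
    by_cases hqp : q = p
    · subst hqp
      have hle : A ≤ Cfsg.pCore q (G ⧸ Cfsg.pCore q G) := le_sSup ⟨hAn, hAq⟩
      rw [Cfsg.Agent.Helper20.PLen.pCore_quot_pCore_eq_bot] at hle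
      intro m _ u hu
      have hu1 : u = 1 := by simpa using hle hu
      rw [hu1, mul_one, one_mul]
    · have hnd : ¬ q ∣ (Subgroup.centralizer ({π x} : Set (G ⧸ Cfsg.pCore p G))).index := by
        intro hd
        have h2 := Nat.Prime.dvd_of_dvd_pow hqf.out (hd.trans hidx)
        exact hqp ((Nat.prime_dvd_prime_iff_eq hqf.out (Fact.out : p.Prime)).1 h2)
      obtain ⟨Q, hQ⟩ := Cfsg.Agent.Helper23.pn_exists_sylow_le _ hnd
      haveI := hAn
      have hAQ : A ≤ (Q : Subgroup (G ⧸ Cfsg.pCore p G)) := hAq.le_sylow_of_normal Q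
      have hxA : π x ∈ Subgroup.centralizer (A : Set (G ⧸ Cfsg.pCore p G)) := by
        rw [Subgroup.mem_centralizer_iff]
        intro u hu
        have h3 := hQ (hAQ hu)
        rw [Subgroup.mem_centralizer_iff] at h3
        exact (h3 (π x) rfl).symm
      have hMle : M ≤ Subgroup.centralizer (A : Set (G ⧸ Cfsg.pCore p G)) := by
        rw [hM, hN, Subgroup.map_normalClosure _ _ hπs]
        apply Subgroup.normalClosure_le_normal
        rintro _ ⟨y, hy, rfl⟩
        rw [Set.mem_singleton_iff] at hy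
        rw [hy]; exact hxA
      intro m hm u hu
      have h4 := hMle hm
      rw [Subgroup.mem_centralizer_iff] at h4
      exact (h4 u hu).symm
  have hcomm := comm_of_solvable_of_cent M hMsol hA
  have hgx : g * x * g⁻¹ ∈ N :=
    Subgroup.normalClosure_normal.conj_mem x (Subgroup.subset_normalClosure (Set.mem_singleton x)) g
  have hhx : h * x * h⁻¹ ∈ N :=
    Subgroup.normalClosure_normal.conj_mem x (Subgroup.subset_normalClosure (Set.mem_singleton x)) h
  have h1 := hcomm _ (Subgroup.mem_map_of_mem π hgx) _ (Subgroup.mem_map_of_mem π hhx)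
  have h2 : π ((g * x * g⁻¹) * (h * x * h⁻¹) * (g * x * g⁻¹)⁻¹ * (h * x * h⁻¹)⁻¹) = 1 := by
    rw [map_mul, map_mul, map_mul, map_inv, map_inv, h1]; group
  exact (QuotientGroup.eq_one_iff _).1 h2

end Cfsg.Agent.Helper24
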